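import Mathlib

/-!
The finite facts about additive subgroups of two-by-two matrices over `ZMod 2`, a matrix being given by the pair
of its columns.
-/

set_option autoImplicit false

namespace Cfsg.Agent.Coprime.FourGen

/-- Vectors. -/
abbrev V2 := ZMod 2 × ZMod 2

/-- Matrices, as pairs of columns. -/
abbrev M2 := V2 × V2

/-- Action of a matrix on a vector. -/
def app (M : M2) (p : V2) : V2 := (p.1 * M.1.1 + p.2 * M.2.1, p.1 * M.1.2 + p.2 * M.2.2)

/-- The identity. -/
def one2 : M2 := ((1, 0), (0, 1))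

/-- The nilpotent matrix fixed by the transvection. -/
def nil0 : M2 := ((0, 0), (1, 0))

/-- An element of order three. -/
def om : M2 := ((0, 1), (1, 1))

/-- The other element of order three. -/
def om2 : M2 := ((1, 1), (1, 0))

/-- The transvection. -/
def wb (p : V2) : V2 := (p.1 + p.2, p.2)

/-- Conjugation by the transvection. -/
def cj (M : M2) : M2 := (wb (app M (wb (1, 0))), wb (app M (wb (0, 1))))

/-- `M` has no fixed vector other than zero when acting as `1 + M`. -/
def Free1 (M : M2) : Prop := ∀ p : V2, app M p = p → p = 0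

/-- `M` is injective. -/
def Inj (M : M2) : Prop := ∀ p : V2, app M p = 0 → p = 0

/-- A nonzero nilpotent matrix. -/
def Nilp (M : M2) : Prop := M ≠ 0 ∧ ∀ p : V2, app M (app M p) = 0

instance (M : M2) : Decidable (Free1 M) := by unfold Free1; infer_instance
instance (M : M2) : Decidable (Inj M) := by unfold Inj; infer_instance
instance (M : M2) : Decidable (Nilp M) := by unfold Nilp; infer_instance

theorem app_cj : ∀ (M : M2) (p : V2), app (cj M) p = wb (app M (wb p)) := by decide +kernel

theorem app_add : ∀ (M : M2) (p q : V2), app M (p + q) = app M p + app M q := by decide +kernel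

theorem app_add_left : ∀ (M N : M2) (p : V2), app (M + N) p = app M p + app N p := by decide +kernel

theorem app_one : ∀ p : V2, app one2 p = p := by decide +kernel

theorem om_props : Free1 om ∧ Inj om ∧ Free1 om2 ∧ Inj om2 ∧ om ≠ 0 ∧ om2 ≠ 0 ∧ cj om = om2 ∧ cj om2 = om ∧
    om + om2 = one2 := by decide +kernel

theorem nil0_props : Nilp nil0 ∧ cj nil0 = nil0 := by decide +kernel

set_option synthInstance.maxSize 2000 in
theorem nilp_props : ∀ M : M2, Nilp M → Free1 M ∧ Inj (one2 + M) ∧ one2 + M ≠ 0 ∧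
    (∀ p q : V2, app M p = 0 → app M q = 0 → p ≠ 0 → q ≠ 0 → p = q) ∧
    (∀ p q : V2, app (one2 + M) p = q → app (one2 + M) q = q → app M p = 0) := by decide +kernel

theorem fixed_cj : ∀ M : M2, cj M = M → M = 0 ∨ M = one2 ∨ M = nil0 ∨ M = one2 + nil0 := by decide +kernel

theorem nil_span : ∀ M : M2, M = 0 ∨ M = one2 ∨ M = om ∨ M = om2 ∨
    nil0 = M + cj M ∨ nil0 = M + cj M + one2 ∨ nil0 = M ∨ nil0 = M + one2 ∨
    nil0 = M + om ∨ nil0 = M + om2 := by decide +kernel

/-- The linear functional with the given coefficients. -/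
def lam (c : M2) (M : M2) : ZMod 2 := c.1.1 * M.1.1 + c.1.2 * M.1.2 + c.2.1 * M.2.1 + c.2.2 * M.2.2

theorem lam_hyperplane : ∀ c : M2, lam c om = 0 ∨ lam c om2 = 0 ∨
    ∃ N : M2, Nilp N ∧ lam c N = 0 ∧ lam c (one2 + N) = 0 ∧
      ((∀ M : M2, lam c M = 0 → lam c (cj M) = 0) → lam c nil0 = 0 ∧ lam c (one2 + nil0) = 0) := by
  decide +kernel

theorem lam_coset : ∀ c d : M2, lam c d = 1 → lam c om = 0 ∨ lam c (om + d) = 0 := by decide +kernel

theorem m2_cases (M : M2) : M = M.1.1 • ((1, 0), (0, 0)) + M.1.2 • ((0, 1), (0, 0))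
    + M.2.1 • ((0, 0), (1, 0)) + M.2.2 • ((0, 0), (0, 1)) := by
  obtain ⟨⟨a, b⟩, c, d⟩ := M
  simp

/-- An additive subgroup of order at least eight contains the kernel of a linear functional. -/
theorem exists_lam (T : AddSubgroup M2) (h : 8 ≤ Nat.card T) : ∃ c : M2, ∀ M, lam c M = 0 → M ∈ T := by
  have h16 : Nat.card M2 = 16 := by simp
  have hmul := T.card_mul_index
  rw [h16] at hmul
  have hidx : T.index = 1 ∨ T.index = 2 := by
    have h0 : T.index ≠ 0 := AddSubgroup.index_ne_zero_of_finite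
    have : 8 * T.index ≤ 16 := hmul ▸ Nat.mul_le_mul_right _ h
    omega
  rcases hidx with h1 | h2
  · exact ⟨0, fun M _ => (AddSubgroup.index_eq_one.1 h1) ▸ AddSubgroup.mem_top M⟩
  classical
  have hadd : ∀ a b : M2, (if a + b ∈ T then (0 : ZMod 2) else 1)
      = (if a ∈ T then 0 else 1) + (if b ∈ T then 0 else 1) := by
    intro a b
    have := AddSubgroup.add_mem_iff_of_index_two h2 (a := a) (b := b)
    by_cases ha : a ∈ T <;> by_cases hb : b ∈ T <;> simp_all
    decide
  let f : M2 →+ ZMod 2 := AddMonoidHom.mk' (fun a => if a ∈ T then 0 else 1) hadd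
  refine ⟨((f ((1, 0), (0, 0)), f ((0, 1), (0, 0))), (f ((0, 0), (1, 0)), f ((0, 0), (0, 1)))), fun M hM => ?_⟩
  have hs : ∀ (a : ZMod 2) (x : M2), f (a • x) = a * f x := by
    intro a x
    obtain rfl | rfl : a = 0 ∨ a = 1 := by revert a; decide
    · rw [zero_smul, map_zero, zero_mul]
    · rw [one_smul, one_mul]
  have hf : f M = 0 := by
    rw [m2_cases M, map_add, map_add, map_add, hs, hs, hs, hs]
    refine Eq.trans ?_ hM
    rw [lam]
    ring
  have : (if M ∈ T then (0 : ZMod 2) else 1) = 0 := hf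
  by_contra hn
  rw [if_neg hn] at this
  exact one_ne_zero this

end Cfsg.Agent.Coprime.FourGen
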