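import Cfsg.Agent.Coprime.FourGen.Setup
import Cfsg.Agent.Coprime.FourGen.Model

/-!
The case `|A| = 16`: coordinates on `A` and the homomorphism from the centralizer of the involutions of `A` to
matrices.
-/

set_option autoImplicit false
set_option linter.style.haveILetI false
set_option linter.unusedSectionVars false

namespace Cfsg.Agent.Coprime.FourGen

open Subgroup

universe u

variable {P : Type u} [Group P]

/-- `v` to the power `i`. -/
def pw (v : P) (i : ZMod 2) : P := if i = 0 then 1 else v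

theorem z2 : ∀ i : ZMod 2, i = 0 ∨ i = 1 := by decide

theorem pw_zero (v : P) : pw v 0 = 1 := if_pos rfl

theorem pw_one (v : P) : pw v 1 = v := if_neg one_ne_zero

theorem pw_add {v : P} (hv : v * v = 1) (i j : ZMod 2) : pw v (i + j) = pw v i * pw v j := by
  rcases z2 i with rfl | rfl <;> rcases z2 j with rfl | rfl
  · rw [add_zero, pw_zero, one_mul]
  · rw [zero_add, pw_zero, one_mul]
  · rw [add_zero, pw_zero, mul_one]
  · rw [show (1 + 1 : ZMod 2) = 0 from rfl, pw_zero, pw_one, hv]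

theorem pw_mem {H : Subgroup P} {v : P} (hv : v ∈ H) (i : ZMod 2) : pw v i ∈ H := by
  rw [pw]; split
  · exact one_mem _
  · exact hv

theorem m2_ext {M N : M2} (h : ∀ p, app M p = app N p) : M = N := by
  have h1 := h (1, 0)
  have h2 := h (0, 1)
  simp [app] at h1 h2
  exact Prod.ext h1 h2

/-- The coordinates. -/
structure Co {P : Type u} [Group P] [Finite P] (S : Ctx P) where
  v1 : P
  v2 : P
  a1 : P
  a2 : P
  h1 : v1 ∈ S.V
  h2 : v2 ∈ S.V
  hz : ∀ g : P, g * v1 = v1 * g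
  n1 : v1 ≠ 1
  n2 : v2 ≠ 1
  n12 : v2 ≠ v1
  ha1 : a1 ∈ S.A
  ha2 : a2 ∈ S.A
  s1 : a1 * a1 = v1
  s2 : a2 * a2 = v2

variable [Finite P]

theorem exists_co (S : Ctx P) (hbig : 16 ≤ Nat.card S.A) : Nonempty (Co S) := by
  haveI : Fact (Nat.Prime 2) := ⟨Nat.prime_two⟩
  let sqh : ↥S.A →* ↥S.V :=
    { toFun := fun z => ⟨(z : P) * z, S.sq_mem_V z.2⟩
      map_one' := Subtype.ext (mul_one 1)
      map_mul' := fun y z => Subtype.ext (by
        show (y : P) * z * (y * z) = y * y * (z * z)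
        rw [show (y : P) * z * (y * z) = y * (z * y) * z by group, ← S.commA' y.2 z.2]
        group) }
  have hker : Nat.card sqh.ker = Nat.card S.V := Nat.card_congr
    { toFun := fun z => ⟨(z.1 : P), z.1.2, congrArg Subtype.val z.2⟩
      invFun := fun v => ⟨⟨v.1, v.2.1⟩, Subtype.ext v.2.2⟩
      left_inv := fun z => rfl
      right_inv := fun v => rfl }
  have hcard := sqh.ker.card_mul_index
  rw [Subgroup.index_ker, hker] at hcard
  have hV := S.card_V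
  have hr : Nat.card sqh.range ≤ Nat.card S.V := Nat.card_le_card_of_injective _ Subtype.val_injective
  have hV4 : Nat.card S.V = 4 := by
    have : 16 ≤ Nat.card S.V * Nat.card S.V :=
      hbig.trans (hcard ▸ Nat.mul_le_mul_left _ hr)
    by_contra hne
    have h3 : Nat.card S.V ≤ 3 := by omega
    have := Nat.mul_le_mul h3 h3
    omega
  have hsurj : sqh.range = ⊤ := by
    refine Subgroup.eq_top_of_le_card _ ?_
    have : 16 ≤ 4 * Nat.card sqh.range := by rw [← hV4, hcard]; exact hbig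
    omega
  haveI := S.normal_V
  have hne : S.V ≠ ⊥ := fun h => by
    rw [h, Subgroup.card_bot] at hV4
    omega
  obtain ⟨v1, hv1, hv1'⟩ := SetLike.exists_of_lt
    (bot_lt_iff_ne_bot.2 (PGroups.inf_center_ne_bot S.pG S.V hne))
  have n1 : v1 ≠ 1 := fun h => hv1' (Subgroup.mem_bot.2 h)
  obtain ⟨v2, hv2, n2, n12⟩ : ∃ v2 ∈ S.V, v2 ≠ 1 ∧ v2 ≠ v1 := by
    by_contra hno
    have : Nat.card S.V ≤ ({1, v1} : Set P).ncard := by
      rw [← SetLike.coe_sort_coe, Nat.card_coe_set_eq]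
      refine Set.ncard_le_ncard (fun v hv => ?_) (Set.toFinite _)
      by_contra hv'
      simp only [Set.mem_insert_iff, Set.mem_singleton_iff, not_or] at hv'
      exact hno ⟨v, hv, hv'.1, hv'.2⟩
    rw [Set.ncard_pair n1.symm] at this
    omega
  obtain ⟨a1, ha1⟩ : (⟨v1, hv1.1⟩ : S.V) ∈ sqh.range := hsurj ▸ Subgroup.mem_top _
  obtain ⟨a2, ha2⟩ : (⟨v2, hv2⟩ : S.V) ∈ sqh.range := hsurj ▸ Subgroup.mem_top _
  exact ⟨{ v1 := v1, v2 := v2, a1 := a1, a2 := a2, h1 := hv1.1, h2 := hv2,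
           hz := Subgroup.mem_center_iff.1 hv1.2, n1 := n1, n2 := n2, n12 := n12,
           ha1 := a1.2, ha2 := a2.2, s1 := congrArg Subtype.val ha1, s2 := congrArg Subtype.val ha2 }⟩

namespace Co

variable {S : Ctx P} (Q : Co S)

theorem V_sq {v : P} (hv : v ∈ S.V) : v * v = 1 := hv.2

theorem V_comm_A {v a : P} (hv : v ∈ S.V) (ha : a ∈ S.A) : v * a = a * v := S.commA' hv.1 ha

/-- The element of `V` with the given coordinates. -/
def ι (p : V2) : P := pw Q.v1 p.1 * pw Q.v2 p.2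

/-- A square root of the element of `V` with the given coordinates. -/
def root (p : V2) : P := pw Q.a1 p.1 * pw Q.a2 p.2

theorem ι_mem (p : V2) : Q.ι p ∈ S.V := S.V.mul_mem (pw_mem Q.h1 _) (pw_mem Q.h2 _)

theorem root_mem (p : V2) : Q.root p ∈ S.A := S.A.mul_mem (pw_mem Q.ha1 _) (pw_mem Q.ha2 _)

theorem ι_add (p q : V2) : Q.ι (p + q) = Q.ι p * Q.ι q := by
  rw [ι, ι, ι, Prod.fst_add, Prod.snd_add, pw_add (V_sq Q.h1), pw_add (V_sq Q.h2)]
  exact Commute.mul_mul_mul_comm (V_comm_A (pw_mem Q.h1 _) (pw_mem Q.h2 _).1) _ _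

theorem ι_zero : Q.ι 0 = 1 := by simp [ι, pw_zero]

theorem root_sq (p : V2) : Q.root p * Q.root p = Q.ι p := by
  have h : ∀ {a v : P}, a * a = v → ∀ i, pw a i * pw a i = pw v i := by
    intro a v e i
    rcases z2 i with rfl | rfl
    · rw [pw_zero, pw_zero, one_mul]
    · rw [pw_one, pw_one, e]
  rw [root, Commute.mul_mul_mul_comm (S.commA' (pw_mem Q.ha2 _) (pw_mem Q.ha1 _) : _ = _),
    h Q.s1, h Q.s2]
  rfl

theorem ι_eq_one {p : V2} (h : Q.ι p = 1) : p = 0 := by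
  obtain ⟨i, j⟩ := p
  rcases z2 i with rfl | rfl <;> rcases z2 j with rfl | rfl
  · rfl
  · exact absurd (by simpa [ι, pw_zero, pw_one] using h) Q.n2
  · exact absurd (by simpa [ι, pw_zero, pw_one] using h) Q.n1
  · refine absurd ?_ Q.n12
    have h' : Q.v1 * Q.v2 = 1 := by simpa [ι, pw_one] using h
    rw [← inv_eq_of_mul_eq_one_right h', inv_eq_of_mul_eq_one_right (V_sq Q.h1)]

theorem ι_inj {p q : V2} (h : Q.ι p = Q.ι q) : p = q := by
  have h2 : Q.ι (p + q) = 1 := by rw [Q.ι_add, h]; exact V_sq (Q.ι_mem q)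
  have h3 := Q.ι_eq_one h2
  have key : ∀ p q : V2, p + q = 0 → p = q := by decide
  exact key p q h3

theorem exists_ι {v : P} (hv : v ∈ S.V) : ∃ p, Q.ι p = v := by
  have hb := Function.Injective.bijective_of_nat_card_le
    (f := fun p => (⟨Q.ι p, Q.ι_mem p⟩ : S.V)) (fun p q h => Q.ι_inj (congrArg Subtype.val h))
    (S.card_V.trans_eq (by simp))
  obtain ⟨p, hp⟩ := hb.2 ⟨v, hv⟩
  exact ⟨p, congrArg Subtype.val hp⟩

/-- The coordinates of an element of `V`. -/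
noncomputable def κ (v : P) : V2 := Function.invFun Q.ι v

theorem κ_ι (p : V2) : Q.κ (Q.ι p) = p :=
  Function.leftInverse_invFun (fun _ _ h => Q.ι_inj h) p

theorem ι_κ {v : P} (hv : v ∈ S.V) : Q.ι (Q.κ v) = v := Function.invFun_eq (Q.exists_ι hv)

/-- The centralizer of `V`. -/
def K (S : Ctx P) : Subgroup P := Subgroup.centralizer (S.V : Set P)

theorem K_comm {x v : P} (hx : x ∈ K S) (hv : v ∈ S.V) : x * v = v * x :=
  (Subgroup.mem_centralizer_iff.1 hx v hv).symm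

theorem K_fix {x v : P} (hx : x ∈ K S) (hv : v ∈ S.V) : x * v * x⁻¹ = v := by
  rw [K_comm hx hv, mul_inv_cancel_right]

theorem C_le_K : S.C ≤ K S := Subgroup.centralizer_le S.V_le_A

theorem mem_K_of_fix {x : P} (h : ∀ v ∈ S.V, x * v * x⁻¹ = v) : x ∈ K S :=
  Subgroup.mem_centralizer_iff.2 fun v hv => (mul_inv_eq_iff_eq_mul.1 (h v hv)).symm

theorem conj_K {x : P} (hx : x ∈ K S) (g : P) : g * x * g⁻¹ ∈ K S := mem_K_of_fix fun v hv => by
  have := K_fix hx (S.normal_V.conj_mem v hv g⁻¹)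
  rw [inv_inv] at this
  calc g * x * g⁻¹ * v * (g * x * g⁻¹)⁻¹ = g * (x * (g⁻¹ * v * g) * x⁻¹) * g⁻¹ := by group
    _ = v := by rw [this]; group

theorem conj_ι {g : P} (hg : g ∉ K S) (p : V2) : g * Q.ι p * g⁻¹ = Q.ι (wb p) := by
  have hc1 : g * Q.v1 * g⁻¹ = Q.v1 := by rw [Q.hz g, mul_inv_cancel_right]
  have hne : g * Q.v2 * g⁻¹ ≠ Q.v2 := by
    intro h
    refine hg (mem_K_of_fix fun v hv => ?_)
    obtain ⟨⟨i, j⟩, rfl⟩ := Q.exists_ι hv
    rcases z2 i with rfl | rfl <;> rcases z2 j with rfl | rfl <;>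
      simp [ι, pw_zero, pw_one, hc1, h]
    rw [← conj_mul, hc1, h]
  have hv2 : g * Q.v2 * g⁻¹ = Q.v1 * Q.v2 := by
    obtain ⟨⟨i, j⟩, hp⟩ := Q.exists_ι (S.normal_V.conj_mem _ Q.h2 g)
    rcases z2 i with rfl | rfl <;> rcases z2 j with rfl | rfl <;> simp [ι, pw_zero, pw_one] at hp
    · exact absurd (conj_eq_one_iff.1 hp.symm) Q.n2
    · exact absurd hp.symm hne
    · exact absurd (conj_injective (hp.symm.trans hc1.symm)) Q.n12
    · exact hp.symm
  obtain ⟨i, j⟩ := p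
  rcases z2 i with rfl | rfl <;> rcases z2 j with rfl | rfl
  · simp [ι, wb, pw_zero]
  · simp [ι, wb, pw_zero, pw_one, hv2]
  · simp [ι, wb, pw_zero, pw_one, hc1]
  · simp only [ι, wb, show (1 + 1 : ZMod 2) = 0 from rfl, pw_zero, pw_one, one_mul]
    rw [← conj_mul, hc1, hv2, ← mul_assoc, V_sq Q.h1, one_mul]

include Q in
theorem K_index_two {g h : P} (hg : g ∉ K S) (hh : h ∉ K S) : g⁻¹ * h ∈ K S := mem_K_of_fix fun v hv => by
  obtain ⟨p, rfl⟩ := Q.exists_ι hv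
  calc g⁻¹ * h * Q.ι p * (g⁻¹ * h)⁻¹ = g⁻¹ * (h * Q.ι p * h⁻¹) * g := by group
    _ = g⁻¹ * (g * Q.ι p * g⁻¹) * g := by rw [Q.conj_ι hh, Q.conj_ι hg]
    _ = Q.ι p := by group

/-- The commutator of `x` and `a`. -/
def com (x a : P) : P := x * a * x⁻¹ * a⁻¹

theorem com_mem_V {x a : P} (hx : x ∈ K S) (ha : a ∈ S.A) : com x a ∈ S.V := by
  have hy : x * a * x⁻¹ ∈ S.A := S.conjA ha x
  refine ⟨S.A.mul_mem hy (S.A.inv_mem ha), ?_⟩
  show x * a * x⁻¹ * a⁻¹ * (x * a * x⁻¹ * a⁻¹) = 1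
  rw [Commute.mul_mul_mul_comm (S.commA' (S.A.inv_mem ha) hy : _ = _), conj_mul,
    K_fix hx (S.sq_mem_V ha), ← mul_inv_rev, mul_inv_cancel]

theorem com_mul {x a b : P} (hx : x ∈ K S) (ha : a ∈ S.A) (hb : b ∈ S.A) :
    com x (a * b) = com x a * com x b := by
  have h := V_comm_A (com_mem_V hx hb) (S.A.inv_mem ha)
  calc com x (a * b) = x * a * x⁻¹ * (com x b * a⁻¹) := by rw [com, com]; group
    _ = x * a * x⁻¹ * (a⁻¹ * com x b) := by rw [h]
    _ = com x a * com x b := by rw [com, com]; group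

theorem com_mul_left {x y a : P} (hx : x ∈ K S) (hy : y ∈ K S) (ha : a ∈ S.A) :
    com (x * y) a = com x a * com y a := by
  calc com (x * y) a = x * com y a * x⁻¹ * com x a := by rw [com, com, com]; group
    _ = com y a * com x a := by rw [K_fix hx (com_mem_V hy ha)]
    _ = com x a * com y a := V_comm_A (com_mem_V hy ha) (com_mem_V hx ha).1

theorem com_V {x v : P} (hx : x ∈ K S) (hv : v ∈ S.V) : com x v = 1 := by
  rw [com, K_fix hx hv, mul_inv_cancel]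

/-- The matrix of an element of `K`. -/
noncomputable def μ (x : P) : M2 := (Q.κ (com x Q.a1), Q.κ (com x Q.a2))

theorem com_eq {x a : P} (hx : x ∈ K S) (ha : a ∈ S.A) :
    com x a = Q.ι (app (Q.μ x) (Q.κ (a * a))) := by
  have hr : ∀ p, com x (Q.root p) = Q.ι (app (Q.μ x) p) := by
    have e1 := Q.ι_κ (com_mem_V hx Q.ha1)
    have e2 := Q.ι_κ (com_mem_V hx Q.ha2)
    rintro ⟨i, j⟩
    rw [root, com_mul hx (pw_mem Q.ha1 _) (pw_mem Q.ha2 _)]
    rcases z2 i with rfl | rfl <;> rcases z2 j with rfl | rfl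
    · rw [show app (Q.μ x) (0, 0) = 0 by simp [app], Q.ι_zero]
      simp [com, pw_zero]
    · rw [show app (Q.μ x) (0, 1) = (Q.μ x).2 by simp [app], μ, e2]
      simp [com, pw_zero, pw_one]
    · rw [show app (Q.μ x) (1, 0) = (Q.μ x).1 by simp [app], μ, e1]
      simp [com, pw_zero, pw_one]
    · rw [show app (Q.μ x) (1, 1) = (Q.μ x).1 + (Q.μ x).2 by simp [app, Prod.ext_iff], Q.ι_add, μ, e1, e2,
        pw_one, pw_one]
  have hv := S.sq_mem_V ha
  obtain ⟨p, hp⟩ := Q.exists_ι hv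
  rw [← hp, Q.κ_ι, ← hr p]
  have hm : (Q.root p)⁻¹ * a ∈ S.V := by
    refine ⟨S.A.mul_mem (S.A.inv_mem (Q.root_mem p)) ha, ?_⟩
    rw [Commute.mul_mul_mul_comm (S.commA' ha (S.A.inv_mem (Q.root_mem p)) : _ = _), ← mul_inv_rev,
      Q.root_sq, hp, inv_mul_cancel]
  have := com_mul hx (Q.root_mem p) hm.1
  rwa [com_V hx hm, mul_one, mul_inv_cancel_left] at this

theorem μ_unique {x : P} (hx : x ∈ K S) {M : M2} (h : ∀ p, com x (Q.root p) = Q.ι (app M p)) :
    Q.μ x = M := m2_ext fun p => Q.ι_inj <| by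
  rw [← h p, Q.com_eq hx (Q.root_mem p), Q.root_sq, Q.κ_ι]

theorem μ_mul {x y : P} (hx : x ∈ K S) (hy : y ∈ K S) : Q.μ (x * y) = Q.μ x + Q.μ y :=
  Q.μ_unique ((K S).mul_mem hx hy) fun p => by
    rw [com_mul_left hx hy (Q.root_mem p), Q.com_eq hx (Q.root_mem p), Q.com_eq hy (Q.root_mem p),
      ← Q.ι_add, ← app_add_left, Q.root_sq, Q.κ_ι]

theorem μ_C {x : P} (hx : x ∈ S.C) : Q.μ x = 0 :=
  Q.μ_unique (C_le_K hx) fun p => by
    rw [com, S.mem_C.1 hx _ (Q.root_mem p), mul_inv_cancel,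
      show app (0 : M2) p = 0 by simp [app], Q.ι_zero]

theorem μ_inv {x : P} (hx : x ∈ K S) : Q.μ x⁻¹ = Q.μ x := by
  have h := Q.μ_mul hx ((K S).inv_mem hx)
  rw [mul_inv_cancel, Q.μ_C (one_mem _)] at h
  have key : ∀ M N : M2, 0 = M + N → N = M := by decide +kernel
  exact key _ _ h

theorem mem_C_of_μ {x : P} (hx : x ∈ K S) (h : Q.μ x = 0) : x ∈ S.C := S.mem_C.2 fun a ha => by
  have := Q.com_eq hx ha
  rw [h, show app (0 : M2) (Q.κ (a * a)) = 0 by simp [app], Q.ι_zero] at this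
  exact mul_inv_eq_one.1 this

theorem inv_mul_mem_C {x y : P} (hx : x ∈ K S) (hy : y ∈ K S) (h : Q.μ x = Q.μ y) : x⁻¹ * y ∈ S.C :=
  Q.mem_C_of_μ ((K S).mul_mem ((K S).inv_mem hx) hy) <| by
    rw [Q.μ_mul ((K S).inv_mem hx) hy, Q.μ_inv hx, h]
    have key : ∀ M : M2, M + M = 0 := by decide +kernel
    exact key _

theorem μ_conj_K {g x : P} (hg : g ∈ K S) (hx : x ∈ K S) : Q.μ (g * x * g⁻¹) = Q.μ x := by
  rw [Q.μ_mul ((K S).mul_mem hg hx) ((K S).inv_mem hg), Q.μ_mul hg hx, Q.μ_inv hg]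
  have key : ∀ M N : M2, M + N + M = N := by decide +kernel
  exact key _ _

theorem μ_conj {g x : P} (hg : g ∉ K S) (hx : x ∈ K S) : Q.μ (g * x * g⁻¹) = cj (Q.μ x) :=
  Q.μ_unique (conj_K hx g) fun p => by
    have hg' : g⁻¹ ∉ K S := fun h => hg (by simpa using (K S).inv_mem h)
    have hb : g⁻¹ * Q.root p * g⁻¹⁻¹ ∈ S.A := S.conjA (Q.root_mem p) g⁻¹
    have hsq : g⁻¹ * Q.root p * g⁻¹⁻¹ * (g⁻¹ * Q.root p * g⁻¹⁻¹) = Q.ι (wb p) := by
      rw [conj_mul, Q.root_sq, Q.conj_ι hg']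
    calc com (g * x * g⁻¹) (Q.root p) = g * com x (g⁻¹ * Q.root p * g⁻¹⁻¹) * g⁻¹ := by
          rw [com, com]; group
      _ = Q.ι (app (cj (Q.μ x)) p) := by
          rw [Q.com_eq hx hb, hsq, Q.κ_ι, Q.conj_ι hg, app_cj]

end Co

end Cfsg.Agent.Coprime.FourGen
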