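import Cfsg.Agent.Coprime.FourGen.Matrix

/-!
In a 2-group without normal elementary abelian subgroups of order 8 the squares of a subgroup have index at
most sixteen.
-/

set_option autoImplicit false
set_option linter.style.haveILetI false
set_option linter.unusedSectionVars false

namespace Cfsg.Agent.Coprime.FourGen

open Subgroup

universe u

variable {P : Type u} [Group P] [Finite P]

theorem exists_mul_self {H : Subgroup P} (hc : ∀ x ∈ H, ∀ y ∈ H, x * y = y * x) {g : P} (hg : g ∈ sq H) :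
    ∃ h ∈ H, h * h = g := by
  refine Subgroup.closure_induction (p := fun g _ => ∃ h ∈ H, h * h = g) (fun g hg => hg)
    ⟨1, H.one_mem, one_mul 1⟩ ?_ ?_ hg
  · rintro _ _ _ _ ⟨a, ha, rfl⟩ ⟨b, hb, rfl⟩
    exact ⟨a * b, H.mul_mem ha hb, Commute.mul_mul_mul_comm (hc b hb a ha) a b⟩
  · rintro _ _ ⟨a, ha, rfl⟩
    exact ⟨a⁻¹, H.inv_mem ha, (mul_inv_rev a a).symm⟩

namespace Co

variable {S : Ctx P} (Q : Co S)

/-- The matrices of the elements of `U ⊓ K`. -/
def T (U : Subgroup P) : AddSubgroup M2 where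
  carrier := {M | ∃ x ∈ U, x ∈ K S ∧ Q.μ x = M}
  zero_mem' := ⟨1, U.one_mem, (K S).one_mem, Q.μ_C S.C.one_mem⟩
  add_mem' := by
    rintro _ _ ⟨x, hx, hxK, rfl⟩ ⟨y, hy, hyK, rfl⟩
    exact ⟨x * y, U.mul_mem hx hy, (K S).mul_mem hxK hyK, Q.μ_mul hxK hyK⟩
  neg_mem' := by
    rintro _ ⟨x, hx, hxK, rfl⟩
    have key : ∀ M : M2, -M = M := by decide +kernel
    exact ⟨x, hx, hxK, (key _).symm⟩

theorem T_le (U : Subgroup P) : Q.T U ≤ Q.T ⊤ := fun _ ⟨x, _, hxK, h⟩ => ⟨x, Subgroup.mem_top x, hxK, h⟩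

theorem T_top_cj {g : P} (hg : g ∉ K S) {M : M2} (hM : M ∈ Q.T ⊤) : cj M ∈ Q.T ⊤ := by
  obtain ⟨x, -, hxK, rfl⟩ := hM
  exact ⟨g * x * g⁻¹, Subgroup.mem_top _, conj_K hxK g, Q.μ_conj hg hxK⟩

/-- The square of an element with a nilpotent matrix is no product of squares in `C`. -/
theorem not_sq {x u : P} {N : M2} (hx : x ∈ K S) (hu : u ∈ K S) (hN : Nilp N) (hfix : Fix S N)
    (hmx : Q.μ x = N) (hmu : Q.μ u = one2 + N) : x * x ∉ sq S.C := by
  intro hsq
  obtain ⟨hfree, hinj, -, hker, hrel⟩ := nilp_props N hN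
  have huV : u * u ∈ S.V := Q.sq_mem_V_of_inj hu (hmu.symm ▸ hinj)
  have hp0 : ∀ b ∈ S.C, b ^ 8 = 1 → app N (Q.κ (b ^ 4)) = 0 := fun b hb h8 => by
    have h := Q.del hu huV hb h8
    rw [hmu] at h
    exact hrel _ _ rfl h
  have hC := S.C_comm fun b hb b' hb' h8 h4 h8' h4' => by
    have e := hker _ _ (hp0 b hb h8) (hp0 b' hb' h8') (fun h => h4 ((Q.κ_pow_four hb h8).2 h))
      (fun h => h4' ((Q.κ_pow_four hb' h8').2 h))
    rw [← Q.ι_κ (Q.κ_pow_four hb h8).1, e, Q.ι_κ (Q.κ_pow_four hb' h8').1]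
  obtain ⟨h, hh, e⟩ := exists_mul_self hC hsq
  have hy : x * h⁻¹ ∈ K S := (K S).mul_mem hx ((K S).inv_mem (C_le_K hh))
  have hh' : x * h * x⁻¹ ∈ S.C := S.normal_C.conj_mem h hh x
  have hyV : x * h⁻¹ * (x * h⁻¹) ∈ S.V := by
    have e1 : x * h⁻¹ * (x * h⁻¹) = (x * h * x⁻¹)⁻¹ * h := by
      rw [show x * h⁻¹ * (x * h⁻¹) = x * h⁻¹ * x⁻¹ * (x * x) * h⁻¹ by group, ← e]
      group
    rw [e1]
    refine mem_V_of_sq (S.C.mul_mem (S.C.inv_mem hh') hh) ?_
    rw [Commute.mul_mul_mul_comm (hC h hh _ (S.C.inv_mem hh') : _ = _), ← mul_inv_rev, conj_mul, e]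
    group
  have hmy : Q.μ (x * h⁻¹) = N := by
    rw [Q.μ_mul hx ((K S).inv_mem (C_le_K hh)), Q.μ_C (S.C.inv_mem hh), add_zero, hmx]
  obtain ⟨z, hz, hz2, hmz⟩ := Q.solve hy hyV (hmy.symm ▸ hfree)
  rw [hmy] at hmz
  exact Q.no_invol hz hz2 (hmz.symm ▸ hN.1) (hmz.symm ▸ hfree) (hmz.symm ▸ hfix)

/-- No element has a fixed point free matrix of order three, when there are at least eight matrices. -/
theorem om_not_mem (h8 : 8 ≤ Nat.card (Q.T ⊤)) {M : M2} (hM : M = om ∨ M = om2) : M ∉ Q.T ⊤ := by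
  intro hMT
  obtain ⟨x, -, hx, hmx⟩ := hMT
  obtain ⟨hF1, hI1, hF2, hI2, hn1, hn2, hc1, hc2, hsum⟩ := om_props
  have hF : Free1 M := by rcases hM with rfl | rfl <;> assumption
  have hI : Inj M := by rcases hM with rfl | rfl <;> assumption
  have hne : M ≠ 0 := by rcases hM with rfl | rfl <;> assumption
  obtain ⟨y, hy, hy2, hmy⟩ := Q.solve hx (Q.sq_mem_V_of_inj hx (hmx.symm ▸ hI)) (hmx.symm ▸ hF)
  rw [hmx] at hmy
  by_cases hK : ∃ g, g ∉ K S
  · obtain ⟨g, hg⟩ := hK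
    have hCA := Q.C_le_A hy hy2 (hmy.symm ▸ hF) (hmy.symm ▸ hI)
    have hsq : ∀ z ∈ K S, z * z ∈ S.V := by
      intro z hz
      set d := z⁻¹ * y * z * y⁻¹ with hd
      have hK' : z⁻¹ * y * z ∈ K S := by simpa using conj_K hy z⁻¹
      have hdC : d ∈ S.C := Q.mem_C_of_μ ((K S).mul_mem hK' ((K S).inv_mem hy)) <| by
        rw [hd, Q.μ_mul hK' ((K S).inv_mem hy), Q.μ_inv hy, show z⁻¹ * y * z = z⁻¹ * y * z⁻¹⁻¹ by group,
          Q.μ_conj_K ((K S).inv_mem hz) hy]
        have key : ∀ M : M2, M + M = 0 := by decide +kernel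
        exact key _
      have hyi : y⁻¹ = y := inv_eq_of_mul_eq_one_right hy2
      have hdV : d ∈ S.V := mem_V_of_sq hdC <| Q.inv_kill hy (hmy.symm ▸ hF) hdC <| by
        rw [hd, hyi]
        simp only [mul_inv_rev, inv_inv, hyi]
        rw [show y * (z⁻¹ * y * z * y) * y = y * z⁻¹ * y * z * (y * y) by group, hy2, mul_one]
        group
      have hzC := hCA (Q.sq_mem_C hz)
      refine mem_V_of_sq (Q.sq_mem_C hz) (Q.fix_kill hy (hmy.symm ▸ hI) (Q.sq_mem_C hz) ?_)
      have e : y * z * y⁻¹ = z * d := by rw [hd]; group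
      rw [show y * (z * z) * y⁻¹ = y * z * y⁻¹ * (y * z * y⁻¹) by group, e,
        show z * d * (z * d) = z * (d * z) * d by group, ← K_comm hz hdV,
        show z * (z * d) * d = z * z * (d * d) by group, V_sq hdV, mul_one]
    have hMT : M ∈ Q.T ⊤ := ⟨x, Subgroup.mem_top x, hx, hmx⟩
    have hcM := Q.T_top_cj hg hMT
    obtain ⟨ho, ho2⟩ : om ∈ Q.T ⊤ ∧ om2 ∈ Q.T ⊤ := by
      rcases hM with rfl | rfl
      · exact ⟨hMT, hc1 ▸ hcM⟩
      · exact ⟨hc2 ▸ hcM, hMT⟩
    have h1 : one2 ∈ Q.T ⊤ := hsum ▸ (Q.T ⊤).add_mem ho ho2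
    obtain ⟨N, hNT, n0, n1, n2, n3⟩ : ∃ N ∈ Q.T ⊤, N ≠ 0 ∧ N ≠ one2 ∧ N ≠ om ∧ N ≠ om2 := by
      by_contra hno
      have hle : Nat.card (Q.T ⊤) ≤ ({0, one2, om, om2} : Finset M2).card := by
        rw [← SetLike.coe_sort_coe, Nat.card_coe_set_eq, ← Set.ncard_coe_finset]
        refine Set.ncard_le_ncard (fun N hN => ?_) (Finset.finite_toSet _)
        by_contra hN'
        simp only [Finset.coe_insert, Finset.coe_singleton, Set.mem_insert_iff, Set.mem_singleton_iff,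
          not_or] at hN'
        exact hno ⟨N, hN, hN'.1, hN'.2.1, hN'.2.2.1, hN'.2.2.2⟩
      have := hle.trans (Finset.card_le_four)
      omega
    have hcN := Q.T_top_cj hg hNT
    have hnil : nil0 ∈ Q.T ⊤ := by
      rcases nil_span N with h | h | h | h | h | h | h | h | h | h
      · exact absurd h n0
      · exact absurd h n1
      · exact absurd h n2
      · exact absurd h n3
      all_goals rw [h]
      · exact (Q.T ⊤).add_mem hNT hcN
      · exact (Q.T ⊤).add_mem ((Q.T ⊤).add_mem hNT hcN) h1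
      · exact hNT
      · exact (Q.T ⊤).add_mem hNT h1
      · exact (Q.T ⊤).add_mem hNT ho
      · exact (Q.T ⊤).add_mem hNT ho2
    obtain ⟨w, -, hw, hmw⟩ := hnil
    have hfree := (nilp_props nil0 nil0_props.1).1
    obtain ⟨z, hz, hz2, hmz⟩ := Q.solve hw (hsq w hw) (hmw.symm ▸ hfree)
    rw [hmw] at hmz
    exact Q.no_invol hz hz2 (hmz.symm ▸ nil0_props.1.1) (hmz.symm ▸ hfree) fun g _ => hmz.symm ▸ nil0_props.2
  · exact Q.no_invol hy hy2 (hmy.symm ▸ hne) (hmy.symm ▸ hF) fun g hg => absurd ⟨g, hg⟩ hK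

/-- An element with a nilpotent matrix in `U` lowers the bound on the squares in `U ⊓ C`. -/
theorem absorb {U : Subgroup P} {N : M2} (hN : Nilp N) (hfix : Fix S N) (hNT : N ∈ Q.T U)
    (hT : one2 + N ∈ Q.T ⊤) : (sq (⊤ : Subgroup ↥U)).relIndex (S.C.subgroupOf U) ≤ 2 := by
  obtain ⟨x, hxU, hx, hmx⟩ := hNT
  obtain ⟨u, -, hu, hmu⟩ := hT
  set D := S.C.subgroupOf U
  set Nn := sq (⊤ : Subgroup ↥U)
  let x' : ↥U := ⟨x, hxU⟩
  have hxD : x' * x' ∈ D := Subgroup.mem_subgroupOf.2 (Q.sq_mem_C hx)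
  have hnot : x' * x' ∉ sq D := by
    intro h
    refine Q.not_sq hx hu hN hfix hmx hmu ?_
    have := Subgroup.mem_map_of_mem U.subtype h
    rw [map_sq] at this
    refine sq_mono ?_ this
    exact Subgroup.map_le_iff_le_comap.2 fun d hd => hd
  have hle : sq D ≤ Nn ⊓ D := le_inf (sq_mono le_top) (sq_le D)
  have h := Subgroup.relIndex_mul_relIndex (sq D) (Nn ⊓ D) D hle inf_le_right
  have h4 : (sq D).relIndex D ≤ 4 := S.index_sq_C U
  rw [← Subgroup.inf_relIndex_right]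
  have h2 : 2 ≤ (sq D).relIndex (Nn ⊓ D) := by
    have h0 : (sq D).relIndex (Nn ⊓ D) ≠ 0 := Subgroup.index_ne_zero_of_finite
    have h1 : (sq D).relIndex (Nn ⊓ D) ≠ 1 := fun h1 =>
      hnot (Subgroup.relIndex_eq_one.1 h1 ⟨mul_self_mem (Subgroup.mem_top x'), hxD⟩)
    omega
  have := Nat.mul_le_mul_right ((Nn ⊓ D).relIndex D) h2
  omega

include Q in
/-- The index of the squares in any subgroup, when `|A| = 16`. -/
theorem index_big (U : Subgroup P) : (sq (⊤ : Subgroup ↥U)).index ≤ 16 := by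
  classical
  set D := S.C.subgroupOf U
  haveI : D.Normal := by haveI := S.normal_C; exact Subgroup.normal_subgroupOf
  set Nn := sq (⊤ : Subgroup ↥U)
  set L := Nn ⊔ D
  have hrel4 : Nn.relIndex D ≤ 4 :=
    (Subgroup.relIndex_le_of_le_left (sq_mono le_top) Subgroup.index_ne_zero_of_finite).trans
      (S.index_sq_C U)
  have hidx : Nn.index = Nn.relIndex D * L.index := by
    rw [← Subgroup.relIndex_mul_index (le_sup_left : Nn ≤ L), Subgroup.relIndex_sup_left]
  suffices L.index ≤ 4 ∨ (L.index ≤ 8 ∧ Nn.relIndex D ≤ 2) by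
    rcases this with h | ⟨h, h'⟩
    · exact hidx ▸ (Nat.mul_le_mul hrel4 h)
    · exact hidx ▸ (Nat.mul_le_mul h' h)
  have hmulL : D.relIndex L * L.index = D.index := Subgroup.relIndex_mul_index le_sup_right
  have hdvd : Nat.card (Q.T U) ∣ 16 := by
    have := AddSubgroup.card_addSubgroup_dvd_card (Q.T U)
    rwa [show Nat.card M2 = 16 by simp] at this
  have hpow : ∀ n, n < 17 → n ∣ 16 → 4 < n → 8 ≤ n := by decide
  by_cases hUK : U ≤ K S
  · -- `U` centralizes `V`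
    have hD : D.index ≤ Nat.card (Q.T U) := by
      refine (S.card_quot_le (fun x => if hx : x ∈ U then (⟨Q.μ x, x, hx, hUK hx, rfl⟩ : Q.T U) else 0)
        fun x hx y hy h => ?_)
      rw [dif_pos hx, dif_pos hy] at h
      exact Q.inv_mul_mem_C (hUK hx) (hUK hy) (congrArg Subtype.val h)
    have hLD : L.index ≤ D.index := Subgroup.index_antitone le_sup_right
    by_cases h4 : Nat.card (Q.T U) ≤ 4
    · exact Or.inl (by omega)
    have h8 : 8 ≤ Nat.card (Q.T U) := hpow _ (by have := Nat.le_of_dvd (by norm_num) hdvd; omega) hdvd (by omega)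
    have h8top : 8 ≤ Nat.card (Q.T ⊤) := h8.trans (Nat.card_mono (Set.toFinite _) (Q.T_le U))
    obtain ⟨c, hc⟩ := exists_lam (Q.T U) h8
    have hno : ∀ M : M2, M = om ∨ M = om2 → M ∉ Q.T ⊤ := fun M hM => Q.om_not_mem h8top hM
    obtain h | h | ⟨N, hN, hN0, hN1, hNfix⟩ := lam_hyperplane c
    · exact absurd (Q.T_le U (hc _ h)) (hno _ (Or.inl rfl))
    · exact absurd (Q.T_le U (hc _ h)) (hno _ (Or.inr rfl))
    have hker : ∀ M, M ∈ Q.T ⊤ → lam c M = 0 := by
      intro M hM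
      rcases z2 (lam c M) with h | h
      · exact h
      rcases lam_coset c M h with h' | h'
      · exact absurd (Q.T_le U (hc _ h')) (hno _ (Or.inl rfl))
      · refine absurd ?_ (hno _ (Or.inl rfl))
        have := (Q.T ⊤).sub_mem (Q.T_le U (hc _ h')) hM
        rwa [add_sub_cancel_right] at this
    refine Or.inr ⟨?_, ?_⟩
    · have hlt : Nat.card (Q.T U) ≠ 16 := by
        intro h16
        have : Q.T U = ⊤ := AddSubgroup.eq_top_of_card_eq _ (by rw [h16]; simp)
        exact hno om (Or.inl rfl) (Q.T_le U (this ▸ AddSubgroup.mem_top _))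
      have hpow2 : ∀ n, n < 17 → n ∣ 16 → n ≠ 16 → n ≤ 8 := by decide
      have := hpow2 _ (by have := Nat.le_of_dvd (by norm_num) hdvd; omega) hdvd hlt
      omega
    · by_cases hK : ∃ g, g ∉ K S
      · obtain ⟨g, hg⟩ := hK
        obtain ⟨h0, h1⟩ := hNfix fun M hM => hker _ (Q.T_top_cj hg (Q.T_le U (hc M hM)))
        exact Q.absorb nil0_props.1 (fun _ _ => nil0_props.2) (hc _ h0) (Q.T_le U (hc _ h1))
      · exact Q.absorb hN (fun g hg => absurd ⟨g, hg⟩ hK) (hc _ hN0) (Q.T_le U (hc _ hN1))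
  · -- some element of `U` moves `V`
    obtain ⟨w, hwU, hw⟩ := SetLike.not_le_iff_exists.1 hUK
    have hTcj : ∀ M ∈ Q.T U, cj M ∈ Q.T U := by
      rintro _ ⟨x, hx, hxK, rfl⟩
      exact ⟨w * x * w⁻¹, U.mul_mem (U.mul_mem hwU hx) (U.inv_mem hwU), conj_K hxK w, Q.μ_conj hw hxK⟩
    have hw' : ∀ {x}, x ∈ U → x ∉ K S → w⁻¹ * x ∈ U ∧ w⁻¹ * x ∈ K S := fun hx hxK =>
      ⟨U.mul_mem (U.inv_mem hwU) hx, Q.K_index_two hw hxK⟩
    have hD : D.index ≤ 2 * Nat.card (Q.T U) := by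
      refine (S.card_quot_le (β := Bool × Q.T U) (fun x => if hx : x ∈ U then (decide (x ∈ K S),
          if hxK : x ∈ K S then (⟨Q.μ x, x, hx, hxK, rfl⟩ : Q.T U)
          else ⟨Q.μ (w⁻¹ * x), w⁻¹ * x, (hw' hx hxK).1, (hw' hx hxK).2, rfl⟩) else (false, 0))
        fun x hx y hy h => ?_).trans_eq (by simp)
      rw [dif_pos hx, dif_pos hy] at h
      obtain ⟨hb, hv⟩ := Prod.ext_iff.1 h
      simp only [decide_eq_decide] at hb
      by_cases hxK : x ∈ K S
      · simp only [dif_pos hxK, dif_pos (hb.1 hxK)] at hv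
        exact Q.inv_mul_mem_C hxK (hb.1 hxK) (congrArg Subtype.val hv)
      · have hyK : y ∉ K S := fun h => hxK (hb.2 h)
        simp only [dif_neg hxK, dif_neg hyK] at hv
        have := Q.inv_mul_mem_C (hw' hx hxK).2 (hw' hy hyK).2 (congrArg Subtype.val hv)
        rwa [show (w⁻¹ * x)⁻¹ * (w⁻¹ * y) = x⁻¹ * y by group] at this
    have hcjadd : ∀ M N : M2, cj (M + N) = cj M + cj N := by decide +kernel
    let φ : Q.T U →+ Q.T U := AddMonoidHom.mk' (fun M => ⟨(M : M2) + cj M, (Q.T U).add_mem M.2 (hTcj _ M.2)⟩)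
      (fun a b => Subtype.ext (by
        show (a : M2) + b + cj (a + b) = a + cj a + (b + cj b)
        rw [hcjadd]; abel))
    have hlift : ∀ M : φ.range, ∃ e : ↥U, e ∈ L ∧ (e : P) ∈ K S ∧ Q.μ (e : P) = ((M : Q.T U) : M2) := by
      rintro ⟨_, ⟨⟨_, ⟨x, hx, hxK, rfl⟩⟩, rfl⟩⟩
      refine ⟨⟨w, hwU⟩ * ⟨x, hx⟩ * ⟨w, hwU⟩⁻¹ * ⟨x, hx⟩⁻¹,
        Subgroup.mem_sup_left (comm_mem_sq (Subgroup.mem_top _) (Subgroup.mem_top _)), ?_, ?_⟩
      · exact (K S).mul_mem (conj_K hxK w) ((K S).inv_mem hxK)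
      · show Q.μ (w * x * w⁻¹ * x⁻¹) = Q.μ x + cj (Q.μ x)
        rw [Q.μ_mul (conj_K hxK w) ((K S).inv_mem hxK), Q.μ_conj hw hxK, Q.μ_inv hxK, add_comm]
    choose e heL heK heμ using hlift
    have him : Nat.card φ.range ≤ D.relIndex L := by
      refine Nat.card_le_card_of_injective
        (fun M => ((⟨e M, heL M⟩ : ↥L) : ↥L ⧸ D.subgroupOf L)) fun M M' h => ?_
      rw [QuotientGroup.eq, Subgroup.mem_subgroupOf, Subgroup.mem_subgroupOf] at h
      have h' : (e M : P)⁻¹ * (e M' : P) ∈ S.C := h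
      have := Q.μ_C h'
      rw [Q.μ_mul ((K S).inv_mem (heK M)) (heK M'), Q.μ_inv (heK M), heμ, heμ] at this
      have key : ∀ a b : M2, a + b = 0 → a = b := by decide +kernel
      exact Subtype.ext (Subtype.ext (key _ _ this))
    have hcard := φ.ker.card_mul_index
    rw [AddSubgroup.index_ker] at hcard
    have hL : L.index ≤ 2 * Nat.card φ.ker := by
      refine Nat.le_of_mul_le_mul_left ?_ (Nat.card_pos (α := φ.range))
      calc Nat.card φ.range * L.index ≤ D.relIndex L * L.index := Nat.mul_le_mul_right _ him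
        _ = D.index := hmulL
        _ ≤ 2 * Nat.card (Q.T U) := hD
        _ = Nat.card φ.range * (2 * Nat.card φ.ker) := by rw [← hcard]; ring
    have hfixed : ∀ M : φ.ker, cj ((M : Q.T U) : M2) = ((M : Q.T U) : M2) := by
      intro M
      have key : ∀ a b : M2, a + b = 0 → b = a := by decide +kernel
      exact key _ _ (congrArg Subtype.val (AddMonoidHom.mem_ker.1 M.2))
    have hsub : ∀ M : φ.ker, ((M : Q.T U) : M2) ∈ ({0, one2, nil0, one2 + nil0} : Finset M2) := by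
      intro M
      simpa using fixed_cj _ (hfixed M)
    by_cases hboth : nil0 ∈ Q.T U ∧ one2 + nil0 ∈ Q.T U
    · refine Or.inr ⟨?_, Q.absorb nil0_props.1 (fun _ _ => nil0_props.2) hboth.1 (Q.T_le U hboth.2)⟩
      have : Nat.card φ.ker ≤ 4 := by
        refine (Nat.card_le_card_of_injective (fun M => (⟨_, hsub M⟩ : ↥({0, one2, nil0, one2 + nil0} :
          Finset M2))) fun M M' h => Subtype.ext (Subtype.ext (congrArg (fun z => z.1) h))).trans ?_
        rw [Nat.card_eq_fintype_card, Fintype.card_coe]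
        exact Finset.card_le_four
      omega
    · refine Or.inl ?_
      have h3 : Nat.card φ.ker ≤ 3 := by
        have hsub' : ∀ M : φ.ker, ((M : Q.T U) : M2) ∈
            ({0, one2, if nil0 ∈ Q.T U then nil0 else one2 + nil0} : Finset M2) := by
          intro M
          have h := hsub M
          have hM := (M : Q.T U).2
          simp only [Finset.mem_insert, Finset.mem_singleton] at h ⊢
          rcases h with h | h | h | h
          · exact Or.inl h
          · exact Or.inr (Or.inl h)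
          · refine Or.inr (Or.inr ?_)
            rw [if_pos (h ▸ hM), h]
          · refine Or.inr (Or.inr ?_)
            rw [if_neg (fun hn => hboth ⟨hn, h ▸ hM⟩), h]
        refine (Nat.card_le_card_of_injective (fun M => (⟨_, hsub' M⟩ : ↥({0, one2,
          if nil0 ∈ Q.T U then nil0 else one2 + nil0} : Finset M2)))
          fun M M' h => Subtype.ext (Subtype.ext (congrArg (fun z => z.1) h))).trans ?_
        rw [Nat.card_eq_fintype_card, Fintype.card_coe]
        exact Finset.card_le_three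
      have hd : Nat.card φ.ker ∣ 16 := (AddSubgroup.card_addSubgroup_dvd_card φ.ker).trans hdvd
      have : ∀ n, n < 4 → n ∣ 16 → n ≤ 2 := by decide
      have := this _ (by omega) hd
      omega

end Co

/-- The squares of a subgroup of a 2-group without normal elementary abelian subgroups of order eight have index
at most sixteen. -/
theorem index_sq_top_le (hP : IsPGroup 2 P)
    (h : ∀ E : Subgroup P, E.Normal → IsMulCommutative E → (∀ a ∈ E, a ^ 2 = 1) → Nat.card E ≤ 4)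
    (U : Subgroup P) : (sq (⊤ : Subgroup ↥U)).index ≤ 16 := by
  obtain ⟨S⟩ := exists_ctx hP h
  by_cases hsmall : Nat.card S.A < 16
  · set D := S.C.subgroupOf U
    haveI : D.Normal := by haveI := S.normal_C; exact Subgroup.normal_subgroupOf
    set Nn := sq (⊤ : Subgroup ↥U)
    rw [← Subgroup.relIndex_mul_index (le_sup_left : Nn ≤ Nn ⊔ D), Subgroup.relIndex_sup_left]
    exact Nat.mul_le_mul ((Subgroup.relIndex_le_of_le_left (sq_mono le_top)
      Subgroup.index_ne_zero_of_finite).trans (S.index_sq_C U)) (S.index_small hsmall U)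
  · obtain ⟨Q⟩ := exists_co S (not_lt.1 hsmall)
    exact Q.index_big U

end Cfsg.Agent.Coprime.FourGen
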