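import Cfsg.Agent.Coprime.FourGen.Coord

/-!
Elements of `K` with given matrices: no fixed free involution, no matrix of order three among at least eight,
and the squares of the elements whose matrix is nilpotent.
-/

set_option autoImplicit false
set_option linter.style.haveILetI false
set_option linter.unusedSectionVars false

namespace Cfsg.Agent.Coprime.FourGen

open Subgroup

universe u

variable {P : Type u} [Group P] [Finite P]

theorem commute_mul_sq {X Y W : P} (hY : ∀ z, Y * z = z * Y) (hW : ∀ z, W * z = z * W) :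
    X * Y * W * (X * Y * W) = X * X * (Y * Y) * (W * W) := by
  rw [Commute.mul_mul_mul_comm (hW (X * Y) : W * (X * Y) = X * Y * W),
    Commute.mul_mul_mul_comm (hY X : Y * X = X * Y)]

namespace Ctx

/-- If at most one involution is a fourth power in `C` modulo `A`, then `C` is abelian. -/
theorem C_comm (S : Ctx P)
    (h : ∀ b ∈ S.C, ∀ b' ∈ S.C, b ^ 8 = 1 → b ^ 4 ≠ 1 → b' ^ 8 = 1 → b' ^ 4 ≠ 1 → b ^ 4 = b' ^ 4) :
    ∀ x ∈ S.C, ∀ y ∈ S.C, x * y = y * x := by
  classical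
  have hC : IsPGroup 2 ↥S.C := S.pG.to_subgroup _
  have h0 := S.hcC
  have h1 := hc_quot hC h0
  have h2 := hc_quot (hC.to_quotient _) h1
  let q : ↥S.C →* (↥S.C ⧸ omega h0) ⧸ omega h1 :=
    (QuotientGroup.mk' (omega h1)).comp (QuotientGroup.mk' (omega h0))
  have hq : Function.Surjective q :=
    (QuotientGroup.mk'_surjective _).comp (QuotientGroup.mk'_surjective _)
  have hq1 : ∀ b : ↥S.C, q b = 1 ↔ b ^ 4 = 1 := by
    intro b
    show ((b : ↥S.C ⧸ omega h0) : (↥S.C ⧸ omega h0) ⧸ omega h1) = 1 ↔ _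
    rw [QuotientGroup.eq_one_iff, mem_omega, ← QuotientGroup.mk_mul, QuotientGroup.eq_one_iff, mem_omega,
      ← pow_two, ← pow_two, ← pow_mul]
  have hw : ∀ b : ↥S.C, b ∈ omega h0 → b ^ 4 = 1 := fun b hb => by
    rw [show (4 : ℕ) = 2 * 2 from rfl, pow_mul, pow_two b, mem_omega.1 hb, one_pow]
  have hcard : Nat.card (omega h2) ≤ 2 := by
    refine (Nat.card_le_card_of_injective
      (fun z : omega h2 => decide (z = 1)) ?_).trans_eq (by simp)
    intro z z' hzz
    by_cases hz : z = 1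
    · exact hz.trans (by simpa [hz] using hzz : z' = 1).symm
    have hz' : z' ≠ 1 := by simpa [hz] using hzz
    obtain ⟨b, hb⟩ := hq z
    obtain ⟨b', hb'⟩ := hq z'
    have hb8 : ∀ {b : ↥S.C} {z : omega h2}, q b = z → z ≠ 1 → b ^ 8 = 1 ∧ b ^ 4 ≠ 1 := by
      intro b z hb hz
      refine ⟨?_, fun h => hz (Subtype.ext (hb.symm.trans ((hq1 b).2 h)))⟩
      have := mem_omega.1 z.2
      rw [← hb, ← map_mul, hq1, ← pow_two, ← pow_mul] at this
      exact this
    obtain ⟨b8, b4⟩ := hb8 hb hz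
    obtain ⟨b8', b4'⟩ := hb8 hb' hz'
    have e4 : b ^ 4 = b' ^ 4 := Subtype.ext <| by
      simpa using h _ b.2 _ b'.2 (by simpa using congrArg Subtype.val b8)
        (fun h => b4 (Subtype.ext (by simpa using h))) (by simpa using congrArg Subtype.val b8')
        (fun h => b4' (Subtype.ext (by simpa using h)))
    refine Subtype.ext ?_
    rw [← hb, ← hb', ← inv_mul_eq_one, ← map_inv, ← map_mul, hq1]
    -- the images of `b` and `b'` in the first quotient commute
    have hbi4 : ((b⁻¹ : ↥S.C) : ↥S.C ⧸ omega h0) ^ 4 = 1 := by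
      rw [← QuotientGroup.mk_pow, QuotientGroup.eq_one_iff, mem_omega, ← pow_add, inv_pow, b8, inv_one]
    have hwO : (b⁻¹ * b')⁻¹ * (b' * b⁻¹) ∈ omega h0 := by
      rw [← QuotientGroup.eq, QuotientGroup.mk_mul, QuotientGroup.mk_mul]
      exact h1 _ hbi4 _
    have hcb : ((b * b)⁻¹) ^ 4 = 1 := by
      rw [inv_pow, ← pow_two, ← pow_mul, b8, inv_one]
    have hcb' : (b' * b') ^ 4 = 1 := by rw [← pow_two, ← pow_mul, b8']
    rw [show (4 : ℕ) = 2 * 2 from rfl, pow_mul, pow_two, pow_two]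
    generalize hW : (b⁻¹ * b')⁻¹ * (b' * b⁻¹) = W at hwO
    have e : b⁻¹ * b' * (b⁻¹ * b') = (b * b)⁻¹ * (b' * b') * W := by
      rw [mul_assoc _ _ W, mul_assoc b' b' W, ← h0 W (hw W hwO) b', ← hW]
      group
    have hp : ∀ c : ↥S.C, c * c * (c * c) = c ^ 4 := fun c => by
      simp only [pow_succ, pow_zero, one_mul, mul_assoc]
    rw [e, commute_mul_sq (h0 _ hcb') (h0 W (hw W hwO)), mem_omega.1 hwO, mul_one, ← mul_inv_rev,
      hp, hp, e4, inv_mul_cancel]
  obtain ⟨g, hg⟩ := exists_zpowers_eq_top ((hC.to_quotient _).to_quotient _)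
    ((index_sq_le _ _ le_rfl ((hC.to_quotient _).to_quotient _) h2).trans hcard)
  obtain ⟨c, rfl⟩ := hq g
  have hdec : ∀ x : ↥S.C, ∃ (i : ℤ) (a : ↥S.C), a ^ 4 = 1 ∧ x = c ^ i * a := by
    intro x
    obtain ⟨i, hi⟩ := Subgroup.mem_zpowers_iff.1 (hg ▸ Subgroup.mem_top (q x))
    refine ⟨i, (c ^ i)⁻¹ * x, (hq1 _).1 ?_, (mul_inv_cancel_left _ _).symm⟩
    rw [map_mul, map_inv, map_zpow, hi, inv_mul_cancel]
  intro x hx y hy
  obtain ⟨i, a, ha, ex⟩ := hdec ⟨x, hx⟩
  obtain ⟨j, b, hb, ey⟩ := hdec ⟨y, hy⟩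
  have : (⟨x, hx⟩ : ↥S.C) * ⟨y, hy⟩ = ⟨y, hy⟩ * ⟨x, hx⟩ := by
    rw [ex, ey, Commute.mul_mul_mul_comm (h0 a ha (c ^ j)) (c ^ i) b,
      Commute.mul_mul_mul_comm (h0 b hb (c ^ i)) (c ^ j) a, ← zpow_add, ← zpow_add, add_comm, h0 a ha b]
  exact congrArg Subtype.val this

end Ctx

namespace Co

variable {S : Ctx P} (Q : Co S)

/-- A matrix respected by all conjugations. -/
def Fix (S : Ctx P) (M : M2) : Prop := ∀ g : P, g ∉ K S → cj M = M

theorem μ_conj_fix {M : M2} (hF : Fix S M) {x : P} (hx : x ∈ K S) (hm : Q.μ x = M) (g : P) :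
    Q.μ (g * x * g⁻¹) = M := by
  by_cases hg : g ∈ K S
  · rw [Q.μ_conj_K hg hx, hm]
  · rw [Q.μ_conj hg hx, hm, hF g hg]

theorem fix_kill {x h : P} (hx : x ∈ K S) (hI : Inj (Q.μ x)) (hh : h ∈ S.C) (hf : x * h * x⁻¹ = h) :
    h * h = 1 := by
  by_contra hne
  obtain ⟨k, h4, h2⟩ := exists_pow_order S.pG (m := 1) (c := h) (by rwa [pow_one, pow_two])
  have hkA : h ^ k ∈ S.A := S.mem_A (S.C.pow_mem hh k) h4
  have e := Q.com_eq hx hkA
  rw [com, ← conj_pow, hf, mul_inv_cancel, eq_comm] at e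
  have := hI _ (Q.ι_eq_one e)
  exact h2 (by rw [pow_one, pow_two, ← Q.ι_κ (S.sq_mem_V hkA), this, Q.ι_zero])

theorem inv_kill {x h : P} (hx : x ∈ K S) (hF : Free1 (Q.μ x)) (hh : h ∈ S.C) (hf : x * h * x⁻¹ = h⁻¹) :
    h * h = 1 := by
  by_contra hne
  obtain ⟨k, h4, h2⟩ := exists_pow_order S.pG (m := 1) (c := h) (by rwa [pow_one, pow_two])
  have hkA : h ^ k ∈ S.A := S.mem_A (S.C.pow_mem hh k) h4
  have hkV := S.sq_mem_V hkA
  have e := Q.com_eq hx hkA
  rw [com, ← conj_pow, hf, inv_pow, ← mul_inv_rev, inv_eq_of_mul_eq_one_right (V_sq hkV)] at e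
  have e' : app (Q.μ x) (Q.κ (h ^ k * h ^ k)) = Q.κ (h ^ k * h ^ k) :=
    Q.ι_inj (by rw [← e, Q.ι_κ hkV])
  exact h2 (by rw [pow_one, pow_two, ← Q.ι_κ hkV, hF _ e', Q.ι_zero])

theorem mem_V_of_sq {h : P} (hh : h ∈ S.C) (h2 : h * h = 1) : h ∈ S.V :=
  ⟨S.mem_A hh (by rw [show (4 : ℕ) = 2 * 2 from rfl, pow_mul, pow_two h, h2, one_pow]), h2⟩

include Q in
theorem sq_mem_C {x : P} (hx : x ∈ K S) : x * x ∈ S.C :=
  Q.mem_C_of_μ ((K S).mul_mem hx hx) <| by
    rw [Q.μ_mul hx hx]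
    have key : ∀ M : M2, M + M = 0 := by decide +kernel
    exact key _

theorem sq_mem_V_of_inj {x : P} (hx : x ∈ K S) (hI : Inj (Q.μ x)) : x * x ∈ S.V :=
  mem_V_of_sq (Q.sq_mem_C hx) (Q.fix_kill hx hI (Q.sq_mem_C hx) (by group))

/-- An element with free matrix and square in `V` can be adjusted to an involution. -/
theorem solve {x : P} (hx : x ∈ K S) (hv : x * x ∈ S.V) (hF : Free1 (Q.μ x)) :
    ∃ y ∈ K S, y * y = 1 ∧ Q.μ y = Q.μ x := by
  have hinj : Function.Injective fun p : V2 => app (Q.μ x) p + p := by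
    intro p r hpr
    have key : ∀ a b c d : V2, a + b = c + d → a + c = b + d := by decide +kernel
    have key2 : ∀ p r : V2, p + r = 0 → p = r := by decide +kernel
    refine key2 p r (hF _ ?_)
    rw [app_add]
    exact key _ _ _ _ hpr
  obtain ⟨p, hp⟩ := (Finite.injective_iff_surjective.1 hinj) (Q.κ (x * x))
  have haK : Q.root p ∈ K S := C_le_K (S.A_le_C (Q.root_mem p))
  refine ⟨x * Q.root p, (K S).mul_mem hx haK, ?_, ?_⟩
  · have h1 : x * Q.root p * x⁻¹ = com x (Q.root p) * Q.root p := by rw [com]; group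
    calc x * Q.root p * (x * Q.root p) = x * Q.root p * x⁻¹ * (x * x * Q.root p) := by group
      _ = com x (Q.root p) * Q.root p * (Q.root p * (x * x)) := by
          rw [h1, V_comm_A hv (Q.root_mem p)]
      _ = com x (Q.root p) * (Q.root p * Q.root p) * (x * x) := by group
      _ = 1 := by
          rw [Q.com_eq hx (Q.root_mem p), Q.root_sq, Q.κ_ι, ← Q.ι_add, show app (Q.μ x) p + p = _ from hp,
            Q.ι_κ hv]
          exact V_sq hv
  · rw [Q.μ_mul hx haK, Q.μ_C (S.A_le_C (Q.root_mem p)), add_zero]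

/-- No involution has a free, nonzero matrix respected by all conjugations. -/
theorem no_invol {z : P} (hz : z ∈ K S) (h2 : z * z = 1) (hne : Q.μ z ≠ 0) (hF : Free1 (Q.μ z))
    (hfix : Fix S (Q.μ z)) : False := by
  classical
  let E : Subgroup P :=
    { carrier := {g | g ∈ S.V ∨ z * g ∈ S.V}
      one_mem' := Or.inl (one_mem _)
      mul_mem' := by
        rintro a b (ha | ha) (hb | hb)
        · exact Or.inl (S.V.mul_mem ha hb)
        · refine Or.inr ?_
          rw [show z * (a * b) = z * a * z⁻¹ * (z * b) by group, K_fix hz ha]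
          exact S.V.mul_mem ha hb
        · refine Or.inr ?_
          rw [← mul_assoc]
          exact S.V.mul_mem ha hb
        · refine Or.inl ?_
          have e : a * b = z * (z * a) * z⁻¹ * (z * b) := by
            rw [show z * (z * a) * z⁻¹ * (z * b) = z * z * (a * b) by group, h2, one_mul]
          rw [e, K_fix hz ha]
          exact S.V.mul_mem ha hb
      inv_mem' := by
        rintro a (ha | ha)
        · exact Or.inl (S.V.inv_mem ha)
        · refine Or.inr ?_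
          have e : z * a⁻¹ = z * (z * a)⁻¹ * z⁻¹ * (z * z) := by group
          rw [e, h2, mul_one, K_fix hz (S.V.inv_mem ha)]
          exact S.V.inv_mem ha }
  have hVle : ∀ v ∈ S.V, v * z = z * v := fun v hv => (K_comm hz hv).symm
  have hform : ∀ g ∈ E, g ∈ S.V ∨ ∃ v ∈ S.V, g = z * v := by
    rintro g (hg | hg)
    · exact Or.inl hg
    · exact Or.inr ⟨_, hg, by rw [← mul_assoc, h2, one_mul]⟩
  have hcomm : ∀ a ∈ E, ∀ b ∈ E, a * b = b * a := by
    intro a ha b hb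
    rcases hform a ha with ha' | ⟨v, hv, rfl⟩ <;> rcases hform b hb with hb' | ⟨w, hw, rfl⟩
    · exact V_comm_A ha' hb'.1
    · exact Commute.mul_right (hVle a ha' : Commute a z) (V_comm_A ha' hw.1)
    · exact Commute.mul_left ((hVle b hb').symm : Commute z b) (V_comm_A hv hb'.1)
    · refine Commute.mul_left ?_ ?_
      · exact (Commute.refl z).mul_right (hVle w hw).symm
      · exact Commute.mul_right (hVle v hv : Commute v z) (V_comm_A hv hw.1)
  have hexp : ∀ a ∈ E, a * a = 1 := by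
    intro a ha
    rcases hform a ha with ha' | ⟨v, hv, rfl⟩
    · exact V_sq ha'
    · rw [Commute.mul_mul_mul_comm (hVle v hv : Commute v z), h2, V_sq hv, one_mul]
  have hnorm : E.Normal := ⟨fun a ha g => by
    have hgz : z * (g * z * g⁻¹) ∈ S.V := by
      have hK := conj_K hz g
      have hC : z * (g * z * g⁻¹) ∈ S.C := by
        refine Q.mem_C_of_μ ((K S).mul_mem hz hK) ?_
        rw [Q.μ_mul hz hK, Q.μ_conj_fix hfix hz rfl g]
        have key : ∀ M : M2, M + M = 0 := by decide +kernel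
        exact key _
      refine mem_V_of_sq hC (Q.inv_kill hz hF hC ?_)
      have h3 : g * z * g⁻¹ * (g * z * g⁻¹) = 1 := by
        rw [conj_mul, h2, mul_one, mul_inv_cancel]
      rw [mul_inv_rev, ← mul_assoc, h2, one_mul, inv_eq_of_mul_eq_one_right h3]
    rcases hform a ha with ha' | ⟨v, hv, rfl⟩
    · exact Or.inl (S.normal_V.conj_mem a ha' g)
    · refine Or.inr ?_
      rw [← conj_mul, ← mul_assoc]
      exact S.V.mul_mem hgz (S.normal_V.conj_mem v hv g)⟩
  have h := S.noE E hnorm (PGroups.isMulCommutative_of_comm hcomm) hexp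
  have hzV : ∀ w ∈ S.V, z * w ∉ S.V := fun w hw hzw => hne (Q.μ_C
    (S.A_le_C ((S.V.mul_mem_cancel_right hw).1 hzw).1))
  have h8 := Nat.card_le_card_of_injective
    (fun t : Bool × V2 => (⟨if t.1 then z * Q.ι t.2 else Q.ι t.2, by
      split
      · exact Or.inr (by rw [← mul_assoc, h2, one_mul]; exact Q.ι_mem _)
      · exact Or.inl (Q.ι_mem _)⟩ : E)) (fun t t' htt => by
      obtain ⟨b, p⟩ := t
      obtain ⟨b', p'⟩ := t'
      have e := congrArg Subtype.val htt
      cases b <;> cases b' <;> simp at e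
      · rw [Q.ι_inj e]
      · exact absurd (e ▸ Q.ι_mem p) (hzV _ (Q.ι_mem p'))
      · exact absurd (e.symm ▸ Q.ι_mem p') (hzV _ (Q.ι_mem p))
      · rw [Q.ι_inj e])
  simp at h8
  omega

/-- The key relation between a matrix and the fourth power of an element of order eight in `C`. -/
theorem del {x b : P} (hx : x ∈ K S) (hxx : x * x ∈ S.V) (hb : b ∈ S.C) (h8 : b ^ 8 = 1) :
    app (Q.μ x) (app (Q.μ x) (Q.κ (b ^ 4))) = app (Q.μ x) (Q.κ (b ^ 4)) := by
  haveI := S.normal_C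
  have hb2 : b * b ∈ S.A := S.mem_A (S.C.mul_mem hb hb) (by rw [← pow_two, ← pow_mul]; exact h8)
  rw [show b ^ 4 = b * b * (b * b) by rw [show (4 : ℕ) = 2 * 2 from rfl, pow_mul, pow_two, pow_two]]
  set p := Q.κ (b * b * (b * b))
  have hcv : com x (b * b) = Q.ι (app (Q.μ x) p) := Q.com_eq hx hb2
  generalize hv : Q.ι (app (Q.μ x) p) = v at hcv
  have hvV : v ∈ S.V := hv ▸ Q.ι_mem _
  have hvc : ∀ c ∈ S.C, v * c = c * v := fun c hc => S.comm_C hvV.1 hc
  have hbc : ∀ c ∈ S.C, b * b * c = c * (b * b) := fun c hc => S.comm_C hb2 hc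
  set y := x * b * x⁻¹ with hy
  have hyC : y ∈ S.C := Subgroup.Normal.conj_mem inferInstance b hb x
  have hyy : y * y = v * (b * b) := by
    rw [hy, conj_mul, ← hcv, com, inv_mul_cancel_right]
  have hyi : y⁻¹ = y * (v * (b * b))⁻¹ := by rw [← hyy]; group
  set δ := y * b⁻¹ with hδ
  have hδC : δ ∈ S.C := S.C.mul_mem hyC (S.C.inv_mem hb)
  have h1 : b * δ * b⁻¹ = δ⁻¹ * v := by
    calc b * δ * b⁻¹ = b * y * (b * b)⁻¹ := by rw [hδ]; group
      _ = b * (y * (v * (b * b))⁻¹) * v := by group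
      _ = b * y⁻¹ * v := by rw [← hyi]
      _ = δ⁻¹ * v := by rw [hδ]; group
  have h4 : δ * δ * (δ * δ) = 1 := by
    have hinv : b * (δ * δ) * b⁻¹ = (δ * δ)⁻¹ := by
      rw [← conj_mul, h1, Commute.mul_mul_mul_comm (hvc _ (S.C.inv_mem hδC) : v * δ⁻¹ = δ⁻¹ * v),
        V_sq hvV, mul_one, ← mul_inv_rev]
    have := sq_one_of_inverted (S.pG.to_subgroup S.C) S.hcC (x := (⟨b, hb⟩ : ↥S.C))
      (c := ⟨δ * δ, S.C.mul_mem hδC hδC⟩) (Subtype.ext hinv)
    exact congrArg Subtype.val this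
  have hδA : δ ∈ S.A := S.mem_A hδC (by
    rw [show (4 : ℕ) = 2 * 2 from rfl, pow_mul, pow_two, pow_two]; exact h4)
  have hsq : δ * δ = v := by
    have e : y * y = δ * δ * (b * b) := by
      rw [show y = δ * b by rw [hδ, inv_mul_cancel_right],
        Commute.mul_mul_mul_comm (S.comm_C hδA hb).symm]
    exact mul_right_cancel (e.symm.trans hyy)
  have hinvx : x * δ * x⁻¹ = δ⁻¹ := by
    calc x * δ * x⁻¹ = x * x * b * (x * x)⁻¹ * (x * b⁻¹ * x⁻¹) := by rw [hδ, hy]; group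
      _ = δ⁻¹ := by rw [S.comm_C hxx.1 hb, mul_inv_cancel_right, hδ, hy]; group
  have hc := Q.com_eq hx hδA
  rw [com, hinvx, ← mul_inv_rev, hsq, inv_eq_of_mul_eq_one_right (V_sq hvV), ← hv, Q.κ_ι] at hc
  exact (Q.ι_inj hc).symm

theorem κ_pow_four {b : P} (hb : b ∈ S.C) (h8 : b ^ 8 = 1) :
    b ^ 4 ∈ S.V ∧ (Q.κ (b ^ 4) = 0 → b ^ 4 = 1) := by
  have hV : b ^ 4 ∈ S.V := mem_V_of_sq (S.C.pow_mem hb 4) (by rw [← pow_add]; exact h8)
  exact ⟨hV, fun h => by rw [← Q.ι_κ hV, h, Q.ι_zero]⟩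

/-- If an involution has an injective free matrix then `C = A`. -/
theorem C_le_A {y : P} (hy : y ∈ K S) (h2 : y * y = 1) (hF : Free1 (Q.μ y)) (hI : Inj (Q.μ y)) :
    S.C ≤ S.A := by
  intro c hc
  refine S.mem_A hc ?_
  by_contra hne
  obtain ⟨k, h8, h4⟩ := exists_pow_order S.pG (m := 2) (c := c) (by simpa using hne)
  have hk := S.C.pow_mem hc k
  refine h4 ((Q.κ_pow_four hk h8).2 (hI _ ?_))
  exact hF _ (Q.del hy (by rw [h2]; exact one_mem _) hk h8)

end Co

end Cfsg.Agent.Coprime.FourGen
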