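import Mathlib
import Cfsg.Agent.PGroups.Basic

/-!
The subgroup generated by the squares, and 2-groups in which the elements of order at most 4 are central: they
need at most as many generators as their subgroup of involutions.
-/

set_option autoImplicit false
set_option linter.style.haveILetI false

namespace Cfsg.Agent.Coprime.FourGen

open Subgroup

universe u

variable {G : Type u} [Group G]

/-- The subgroup generated by the squares of the elements of `U`. -/
def sq (U : Subgroup G) : Subgroup G := Subgroup.closure {g | ∃ u ∈ U, u * u = g}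

theorem sq_le (U : Subgroup G) : sq U ≤ U :=
  (Subgroup.closure_le _).2 fun _ ⟨u, hu, h⟩ => h ▸ U.mul_mem hu hu

theorem mul_self_mem {U : Subgroup G} {u : G} (hu : u ∈ U) : u * u ∈ sq U :=
  Subgroup.subset_closure ⟨u, hu, rfl⟩

theorem sq_mono {U W : Subgroup G} (h : U ≤ W) : sq U ≤ sq W :=
  Subgroup.closure_mono fun _ ⟨u, hu, e⟩ => ⟨u, h hu, e⟩

theorem conj_sq_mem {U : Subgroup G} {u g : G} (hu : u ∈ U) (hg : g ∈ sq U) :
    u * g * u⁻¹ ∈ sq U := by
  refine Subgroup.closure_induction (p := fun g _ => u * g * u⁻¹ ∈ sq U) ?_ ?_ ?_ ?_ hg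
  · rintro _ ⟨w, hw, rfl⟩
    rw [show u * (w * w) * u⁻¹ = (u * w * u⁻¹) * (u * w * u⁻¹) by group]
    exact mul_self_mem (U.mul_mem (U.mul_mem hu hw) (U.inv_mem hu))
  · rw [show u * 1 * u⁻¹ = (1 : G) by group]
    exact one_mem _
  · intro a b _ _ ha hb
    rw [show u * (a * b) * u⁻¹ = (u * a * u⁻¹) * (u * b * u⁻¹) by group]
    exact mul_mem ha hb
  · intro a _ ha
    rw [show u * a⁻¹ * u⁻¹ = (u * a * u⁻¹)⁻¹ by group]
    exact inv_mem ha

theorem le_normalizer_sq (U : Subgroup G) : U ≤ Subgroup.normalizer (sq U : Set G) := by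
  intro u hu
  refine Subgroup.mem_normalizer_iff.2 fun g => ⟨conj_sq_mem hu, fun h => ?_⟩
  have := conj_sq_mem (U.inv_mem hu) h
  rwa [show u⁻¹ * (u * g * u⁻¹) * u⁻¹⁻¹ = g by group] at this

theorem comm_mem_sq {U : Subgroup G} {x y : G} (hx : x ∈ U) (hy : y ∈ U) :
    x * y * x⁻¹ * y⁻¹ ∈ sq U := by
  rw [show x * y * x⁻¹ * y⁻¹
    = (x * y) * (x * y) * ((y⁻¹ * x⁻¹ * y) * (y⁻¹ * x⁻¹ * y)) * (y⁻¹ * y⁻¹) by group]
  exact mul_mem (mul_mem (mul_self_mem (U.mul_mem hx hy))
    (mul_self_mem (U.mul_mem (U.mul_mem (U.inv_mem hy) (U.inv_mem hx)) hy)))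
    (mul_self_mem (U.inv_mem hy))

theorem map_sq {H : Type*} [Group H] (f : G →* H) (U : Subgroup G) :
    (sq U).map f = sq (U.map f) := by
  rw [sq, sq, MonoidHom.map_closure]
  congr 1
  ext h
  constructor
  · rintro ⟨g, ⟨u, hu, rfl⟩, rfl⟩
    exact ⟨f u, Subgroup.mem_map_of_mem f hu, (map_mul f u u).symm⟩
  · rintro ⟨w, ⟨u, hu, rfl⟩, rfl⟩
    exact ⟨u * u, ⟨u, hu, rfl⟩, map_mul f u u⟩

instance sq_top_normal : (sq (⊤ : Subgroup G)).Normal :=
  ⟨fun _ hg u => conj_sq_mem (Subgroup.mem_top u) hg⟩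

theorem sq_top_le_frattini [Finite G] (hG : IsPGroup 2 G) : sq (⊤ : Subgroup G) ≤ frattini G := by
  haveI : Fact (Nat.Prime 2) := ⟨Nat.prime_two⟩
  refine (Subgroup.closure_le _).2 ?_
  rintro _ ⟨u, -, rfl⟩
  rw [SetLike.mem_coe, ← pow_two]
  exact PGroups.pow_mem_frattini hG u

/-- A finite 2-group with squares of index at most two is cyclic. -/
theorem exists_zpowers_eq_top [Finite G] (hG : IsPGroup 2 G) (h : (sq (⊤ : Subgroup G)).index ≤ 2) :
    ∃ g : G, Subgroup.zpowers g = ⊤ := by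
  have h0 : (sq (⊤ : Subgroup G)).index ≠ 0 := Subgroup.index_ne_zero_of_finite
  obtain h1 | h2 : (sq (⊤ : Subgroup G)).index = 1 ∨ (sq (⊤ : Subgroup G)).index = 2 := by omega
  · refine ⟨1, frattini_nongenerating ?_⟩
    rw [eq_top_iff, ← Subgroup.index_eq_one.1 h1]
    exact (sq_top_le_frattini hG).trans le_sup_right
  · obtain ⟨g, hg⟩ : ∃ g, g ∉ sq (⊤ : Subgroup G) := by
      by_contra h'
      simp only [not_exists, not_not] at h'
      rw [Subgroup.index_eq_one.2 (eq_top_iff.2 fun x _ => h' x)] at h2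
      omega
    refine ⟨g, frattini_nongenerating ?_⟩
    rw [eq_top_iff]
    intro x _
    by_cases hx : x ∈ sq (⊤ : Subgroup G)
    · exact Subgroup.mem_sup_right (sq_top_le_frattini hG hx)
    · have hgx : g⁻¹ * x ∈ sq (⊤ : Subgroup G) := by
        rw [Subgroup.mul_mem_iff_of_index_two h2, inv_mem_iff]
        tauto
      have := Subgroup.mul_mem_sup (Subgroup.mem_zpowers g) (sq_top_le_frattini hG hgx)
      rwa [mul_inv_cancel_left] at this

/-- Elements of order at most four are central. -/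
def Hc (G : Type*) [Group G] : Prop := ∀ x : G, x ^ 4 = 1 → ∀ y : G, x * y = y * x

/-- A nontrivial 2-element has a power of any smaller 2-power order. -/
theorem exists_pow_order [Finite G] (hG : IsPGroup 2 G) {c : G} {m : ℕ} (h : c ^ 2 ^ m ≠ 1) :
    ∃ k : ℕ, (c ^ k) ^ 2 ^ (m + 1) = 1 ∧ (c ^ k) ^ 2 ^ m ≠ 1 := by
  classical
  obtain ⟨n, hn⟩ := hG c
  have hex : ∃ j, c ^ 2 ^ j = 1 := ⟨n, hn⟩
  have hlt : m < Nat.find hex := by
    by_contra hle
    obtain ⟨d, hd⟩ : ∃ d, m = Nat.find hex + d := ⟨m - Nat.find hex, by omega⟩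
    exact h (by rw [hd, pow_add, pow_mul, Nat.find_spec hex, one_pow])
  refine ⟨2 ^ (Nat.find hex - (m + 1)), ?_, fun h' => ?_⟩
  · rw [← pow_mul, ← pow_add, show Nat.find hex - (m + 1) + (m + 1) = Nat.find hex by omega]
    exact Nat.find_spec hex
  · rw [← pow_mul, ← pow_add] at h'
    exact Nat.find_min hex (show Nat.find hex - (m + 1) + m < Nat.find hex by omega) h'

theorem sq_one_of_inverted [Finite G] (hG : IsPGroup 2 G) (hc : Hc G) {x c : G}
    (h : x * c * x⁻¹ = c⁻¹) : c * c = 1 := by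
  by_contra hne
  obtain ⟨k, h4, h2⟩ := exists_pow_order hG (m := 1) (c := c) (by rwa [pow_one, pow_two])
  have h4' : (c ^ k) ^ 4 = 1 := h4
  have hcom : x * c ^ k = c ^ k * x := (hc _ h4' x).symm
  have hinv : x * c ^ k * x⁻¹ = (c ^ k)⁻¹ := by rw [← conj_pow, h, inv_pow]
  rw [hcom, mul_inv_cancel_right] at hinv
  refine h2 ?_
  rw [pow_one, pow_two]
  exact mul_eq_one_iff_eq_inv.2 hinv

theorem conj_inv_mul_sq [Finite G] (hG : IsPGroup 2 G) (hc : Hc G) {x : G} (hx : x ^ 8 = 1) (y : G) :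
    ((y * x * y⁻¹)⁻¹ * x) * ((y * x * y⁻¹)⁻¹ * x) = 1 := by
  have hz : ∀ w, x * x * w = w * (x * x) := hc (x * x) (by rw [← pow_two, ← pow_mul]; exact hx)
  have hzu : (y * x * y⁻¹) * (y * x * y⁻¹) = x * x := by
    rw [show y * x * y⁻¹ * (y * x * y⁻¹) = y * (x * x) * y⁻¹ by group, ← hz y, mul_inv_cancel_right]
  refine sq_one_of_inverted hG hc (x := x) ?_
  generalize y * x * y⁻¹ = u at hzu ⊢
  have hu : u⁻¹ = u * (x * x)⁻¹ := by
    rw [← hzu]; group
  have e : (u⁻¹ * x)⁻¹ = x⁻¹ * u := by group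
  rw [e, show x * (u⁻¹ * x) * x⁻¹ = x * u⁻¹ by group, hu]
  have hz' : (x * x)⁻¹ * x = x * (x * x)⁻¹ := by group
  have hzi : ∀ w, (x * x)⁻¹ * w = w * (x * x)⁻¹ := fun w =>
    ((Commute.inv_left (hz w))).eq
  rw [← hzi u, show x⁻¹ * u = x⁻¹ * (u : G) from rfl]
  group

/-- The involutions of a group with central elements of order four, together with one. -/
def omega (hc : Hc G) : Subgroup G where
  carrier := {x | x * x = 1}
  one_mem' := mul_one 1
  mul_mem' {a b} ha hb := by
    have ha' : a * a = 1 := ha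
    have hb' : b * b = 1 := hb
    have h4 : a ^ 4 = 1 := by
      rw [show (4 : ℕ) = 2 * 2 from rfl, pow_mul, pow_two a, ha', one_pow]
    show a * b * (a * b) = 1
    rw [show a * b * (a * b) = a * (b * a) * b by group, ← hc a h4 b,
      show a * (a * b) * b = (a * a) * (b * b) by group, ha', hb', one_mul]
  inv_mem' {a} ha := by
    have ha' : a * a = 1 := ha
    show a⁻¹ * a⁻¹ = 1
    rw [← mul_inv_rev, ha', inv_one]

theorem mem_omega {hc : Hc G} {x : G} : x ∈ omega hc ↔ x * x = 1 := Iff.rfl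

instance omega_normal (hc : Hc G) : (omega hc).Normal := ⟨fun n hn g => by
  have hn' : n * n = 1 := hn
  show g * n * g⁻¹ * (g * n * g⁻¹) = 1
  rw [show g * n * g⁻¹ * (g * n * g⁻¹) = g * (n * n) * g⁻¹ by group, hn', mul_one, mul_inv_cancel]⟩

theorem hc_quot [Finite G] (hG : IsPGroup 2 G) (hc : Hc G) : Hc (G ⧸ omega hc) := by
  intro a ha b
  obtain ⟨x, rfl⟩ := QuotientGroup.mk_surjective a
  obtain ⟨y, rfl⟩ := QuotientGroup.mk_surjective b
  rw [← QuotientGroup.mk_pow, QuotientGroup.eq_one_iff, mem_omega, ← pow_add] at ha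
  have h := conj_inv_mul_sq hG hc ha y
  rw [← QuotientGroup.mk_mul, ← QuotientGroup.mk_mul, eq_comm, QuotientGroup.eq, mem_omega]
  have e : (y * x)⁻¹ * (x * y) = y⁻¹ * ((y * x * y⁻¹)⁻¹ * x) * y := by group
  rw [e]
  generalize (y * x * y⁻¹)⁻¹ * x = c at h ⊢
  rw [show (y⁻¹ * c * y) * (y⁻¹ * c * y) = y⁻¹ * (c * c) * y by group, h, mul_one, inv_mul_cancel]

/-- In a finite 2-group with central elements of order four, the index of the squares is at most the number
of solutions of `x * x = 1`. -/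
theorem index_sq_le : ∀ (n : ℕ) (G : Type u) [Group G] [Finite G], Nat.card G ≤ n → IsPGroup 2 G →
    ∀ hc : Hc G, (sq (⊤ : Subgroup G)).index ≤ Nat.card ↥(omega hc) := by
  intro n
  induction n with
  | zero => intro G _ _ h; exact absurd Nat.card_pos (not_lt.2 h)
  | succ n ih =>
    intro G _ _ hn hG hc
    by_cases hZ : omega hc ≤ sq (⊤ : Subgroup G)
    · by_cases hb : omega hc = ⊥
      · have htriv : ∀ x : G, x = 1 := by
          intro x
          by_contra hx
          obtain ⟨k, h1, h2⟩ := exists_pow_order hG (m := 0) (c := x) (by simpa using hx)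
          rw [pow_zero, pow_one] at h2
          rw [zero_add, pow_one, pow_two] at h1
          exact h2 (Subgroup.mem_bot.1 (hb ▸ (mem_omega (hc := hc)).2 h1))
        rw [Subgroup.index_eq_one.2 (eq_top_iff.2 fun x _ => by rw [htriv x]; exact one_mem _)]
        exact Nat.card_pos
      set q := QuotientGroup.mk' (omega hc)
      have hcard : Nat.card (G ⧸ omega hc) ≤ n := by
        have h1 := Subgroup.card_eq_card_quotient_mul_card_subgroup (omega hc)
        have h2 : 2 ≤ Nat.card ↥(omega hc) := by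
          have := (Subgroup.one_lt_card_iff_ne_bot (omega hc)).2 hb
          omega
        have h3 := Nat.mul_le_mul_left (Nat.card (G ⧸ omega hc)) h2
        omega
      have hidx := ih (G ⧸ omega hc) hcard (hG.to_quotient _) (hc_quot hG hc)
      have hmap : (sq (⊤ : Subgroup G)).map q = sq ⊤ := by
        rw [map_sq, Subgroup.map_top_of_surjective q (QuotientGroup.mk'_surjective _)]
      rw [← hmap, Subgroup.index_map_eq (sq (⊤ : Subgroup G)) (QuotientGroup.mk'_surjective _)
        (by rw [QuotientGroup.ker_mk']; exact hZ)] at hidx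
      refine hidx.trans ?_
      have hout : ∀ a : omega (hc_quot hG hc),
          Quotient.out (a : G ⧸ omega hc) * Quotient.out (a : G ⧸ omega hc) ∈ omega hc := by
        intro a
        rw [← QuotientGroup.eq_one_iff, QuotientGroup.mk_mul, QuotientGroup.out_eq']
        exact a.2
      refine Nat.card_le_card_of_injective (fun a => (⟨_, hout a⟩ : omega hc)) ?_
      intro a b hab
      have e : Quotient.out (a : G ⧸ omega hc) * Quotient.out (a : G ⧸ omega hc)
          = Quotient.out (b : G ⧸ omega hc) * Quotient.out (b : G ⧸ omega hc) := congrArg Subtype.val hab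
      have ha4 : Quotient.out (a : G ⧸ omega hc) ^ 4 = 1 := by
        have := mem_omega.1 (hout a)
        rw [show (4 : ℕ) = 2 * 2 from rfl, pow_mul, pow_two, pow_two]; exact this
      apply Subtype.ext
      rw [← QuotientGroup.out_eq' (a : G ⧸ omega hc), ← QuotientGroup.out_eq' (b : G ⧸ omega hc),
        QuotientGroup.eq, mem_omega]
      generalize Quotient.out (a : G ⧸ omega hc) = x at e ha4 ⊢
      generalize Quotient.out (b : G ⧸ omega hc) = y at e ⊢
      have hxy : x⁻¹ * y = y * x⁻¹ := by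
        have := hc x⁻¹ (by rw [inv_pow, ha4, inv_one]) y
        exact this
      calc x⁻¹ * y * (x⁻¹ * y) = x⁻¹ * (y * x⁻¹) * y := by group
        _ = x⁻¹ * (x⁻¹ * y) * y := by rw [hxy]
        _ = (x * x)⁻¹ * (y * y) := by group
        _ = 1 := by rw [e, inv_mul_cancel]
    · obtain ⟨z, hzO, hzs⟩ := SetLike.not_le_iff_exists.1 hZ
      obtain ⟨M, hleM, hM⟩ := (Set.toFinite
        {M : Subgroup G | sq (⊤ : Subgroup G) ≤ M ∧ z ∉ M}).exists_le_maximal
        (show sq (⊤ : Subgroup G) ∈ {M : Subgroup G | sq (⊤ : Subgroup G) ≤ M ∧ z ∉ M} from ⟨le_rfl, hzs⟩)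
      obtain ⟨hsM, hzM⟩ := hM.1
      have hMn : M.Normal := ⟨fun m hm g => by
        have h1 := hsM (comm_mem_sq (Subgroup.mem_top g) (Subgroup.mem_top m))
        have := M.mul_mem h1 hm
        rwa [inv_mul_cancel_right] at this⟩
      have hz2 : z * z = 1 := hzO
      have hMidx : ∀ g : G, g ∉ M → g * z ∈ M := by
        intro g hg
        have hle : M ≤ M ⊔ Subgroup.zpowers g := le_sup_left
        have hgin : g ∈ M ⊔ Subgroup.zpowers g := Subgroup.mem_sup_right (Subgroup.mem_zpowers g)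
        have hzin : z ∈ M ⊔ Subgroup.zpowers g := by
          by_contra hno
          exact hg (hM.2 ⟨hsM.trans hle, hno⟩ hle hgin)
        obtain ⟨m, hm, w, hw, e⟩ := Subgroup.mem_sup_of_normal_left.1 hzin
        obtain ⟨i, rfl⟩ := Subgroup.mem_zpowers_iff.1 hw
        have hg2 : ∀ k : ℤ, g ^ (2 * k) ∈ M := fun k => by
          rw [zpow_mul, zpow_two]
          exact M.zpow_mem (hsM (mul_self_mem (Subgroup.mem_top g))) k
        obtain ⟨k, rfl | rfl⟩ := Int.even_or_odd' i
        · exact absurd (e ▸ M.mul_mem hm (hg2 k)) hzM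
        · rw [← e, show g * (m * g ^ (2 * k + 1)) = (g * m * g⁻¹) * g ^ (2 * (k + 1)) by group]
          exact M.mul_mem (hMn.conj_mem m hm g) (hg2 _)
      have hidx2 : M.index = 2 := by
        rw [Subgroup.index_eq_two_iff]
        refine ⟨z, fun b => ?_⟩
        by_cases hb : b ∈ M
        · exact Or.inr ⟨hb, fun h => hzM (by simpa using M.mul_mem (M.inv_mem hb) h)⟩
        · exact Or.inl ⟨hMidx b hb, hb⟩
      have hMcard : Nat.card ↥M ≤ n := by
        have := M.card_mul_index
        rw [hidx2] at this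
        omega
      have hcM : Hc ↥M := fun x hx y =>
        Subtype.ext (hc x (by simpa using congrArg Subtype.val hx) y)
      have hi := ih ↥M hMcard (hG.to_subgroup M) hcM
      have hrI : ((sq (⊤ : Subgroup ↥M)).map M.subtype).relIndex M = (sq (⊤ : Subgroup ↥M)).index := by
        rw [Subgroup.relIndex, Subgroup.subgroupOf,
          Subgroup.comap_map_eq_self_of_injective M.subtype_injective]
      rw [← hrI] at hi
      have hsub : (sq (⊤ : Subgroup ↥M)).map M.subtype ≤ sq (⊤ : Subgroup G) := by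
        rw [map_sq]; exact sq_mono le_top
      have hrel : (sq (⊤ : Subgroup G)).relIndex M ≤ Nat.card ↥(omega hcM) :=
        (Subgroup.relIndex_le_of_le_left hsub Subgroup.index_ne_zero_of_finite).trans hi
      rw [← Subgroup.relIndex_mul_index hsM, hidx2]
      refine (Nat.mul_le_mul_right 2 hrel).trans ?_
      rw [← Nat.card_fin 2, ← Nat.card_prod]
      refine Nat.card_le_card_of_injective (fun p => (⟨(p.1.1 : G) * z ^ (p.2 : ℕ), ?_⟩ : omega hc)) ?_
      · refine (omega hc).mul_mem ?_ ((omega hc).pow_mem hzO _)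
        exact mem_omega.2 (congrArg Subtype.val p.1.2)
      · rintro ⟨a, i⟩ ⟨b, j⟩ hab
        have e : (a.1 : G) * z ^ (i : ℕ) = b.1 * z ^ (j : ℕ) := congrArg Subtype.val hab
        have hij : i = j := by
          by_contra hne
          apply hzM
          fin_cases i <;> fin_cases j <;> simp at hne e
          · rw [show z = (b.1 : G)⁻¹ * a.1 by rw [e, inv_mul_cancel_left]]
            exact M.mul_mem (M.inv_mem b.1.2) a.1.2
          · rw [show z = (a.1 : G)⁻¹ * b.1 by rw [← e, inv_mul_cancel_left]]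
            exact M.mul_mem (M.inv_mem a.1.2) b.1.2
        subst hij
        exact Prod.ext (Subtype.ext (Subtype.ext (mul_right_cancel e))) rfl

end Cfsg.Agent.Coprime.FourGen
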