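import Mathlib
import Cfsg.Agent.Coprime.FourGen.Squares
import Cfsg.Agent.PGroups.MaxAbelian

/-!
A 2-group without normal elementary abelian subgroups of order 8, with a maximal normal abelian subgroup `A` of
exponent at most four: the centralizer of `A` needs two generators at most, and the case `|A| < 16`.
-/

set_option autoImplicit false
set_option linter.style.haveILetI false
set_option linter.unusedSectionVars false

namespace Cfsg.Agent.Coprime.FourGen

open Subgroup

universe u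

/-- The setting. -/
structure Ctx (P : Type u) [Group P] where
  pG : IsPGroup 2 P
  noE : ∀ E : Subgroup P, E.Normal → IsMulCommutative E → (∀ a ∈ E, a * a = 1) → Nat.card E ≤ 4
  A : Subgroup P
  normalA : A.Normal
  commA : IsMulCommutative A
  expA : ∀ a ∈ A, a ^ 4 = 1
  maxA : ∀ B : Subgroup P, B.Normal → IsMulCommutative B → (∀ b ∈ B, b ^ 4 = 1) → A ≤ B → B = A

variable {P : Type u} [Group P] [Finite P]

theorem exists_ctx (hP : IsPGroup 2 P)
    (h : ∀ E : Subgroup P, E.Normal → IsMulCommutative E → (∀ a ∈ E, a ^ 2 = 1) → Nat.card E ≤ 4) :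
    Nonempty (Ctx P) := by
  obtain ⟨A, -, hA⟩ := (Set.toFinite
    {A : Subgroup P | A.Normal ∧ IsMulCommutative A ∧ ∀ a ∈ A, a ^ 4 = 1}).exists_le_maximal
    (show (⊥ : Subgroup P) ∈ {A : Subgroup P | A.Normal ∧ IsMulCommutative A ∧ ∀ a ∈ A, a ^ 4 = 1} from
      ⟨inferInstance, inferInstance, fun a ha => by rw [Subgroup.mem_bot.1 ha, one_pow]⟩)
  exact ⟨{ pG := hP, noE := fun E h1 h2 h3 => h E h1 h2 fun a ha => by rw [pow_two]; exact h3 a ha,
           A := A, normalA := hA.1.1, commA := hA.1.2.1, expA := hA.1.2.2,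
           maxA := fun B h1 h2 h3 h4 => le_antisymm (hA.2 ⟨h1, h2, h3⟩ h4) h4 }⟩

omit [Finite P] in
theorem le_card_of_list [Finite P] {Q : Subgroup P} (l : List P) (hn : l.Nodup) (h : ∀ x ∈ l, x ∈ Q) :
    l.length ≤ Nat.card Q := by
  classical
  have h1 : ((l.toFinset : Finset P) : Set P) ⊆ (Q : Set P) := fun x hx => h x (List.mem_toFinset.1 hx)
  have h2 := Set.ncard_le_ncard h1
  rwa [Set.ncard_coe_finset, List.toFinset_card_of_nodup hn] at h2

namespace Ctx

variable (S : Ctx P)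

/-- The centralizer of `A`. -/
def C : Subgroup P := Subgroup.centralizer (S.A : Set P)

theorem conjA {a : P} (ha : a ∈ S.A) (g : P) : g * a * g⁻¹ ∈ S.A := S.normalA.conj_mem a ha g

theorem commA' {a b : P} (ha : a ∈ S.A) (hb : b ∈ S.A) : a * b = b * a :=
  PGroups.comm_of_isMulCommutative S.commA ha hb

theorem comm_C {a c : P} (ha : a ∈ S.A) (hc : c ∈ S.C) : a * c = c * a :=
  Subgroup.mem_centralizer_iff.1 hc a ha

theorem A_le_C : S.A ≤ S.C := fun _ ha => Subgroup.mem_centralizer_iff.2 fun _ hb => S.commA' hb ha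

theorem mem_C {x : P} : x ∈ S.C ↔ ∀ a ∈ S.A, x * a * x⁻¹ = a := by
  refine ⟨fun h a ha => by rw [← S.comm_C ha h, mul_inv_cancel_right], fun h => ?_⟩
  exact Subgroup.mem_centralizer_iff.2 fun a ha => (mul_inv_eq_iff_eq_mul.1 (h a ha)).symm

theorem normal_C : S.C.Normal := ⟨fun c hc g => S.mem_C.2 fun a ha => by
  have := S.mem_C.1 hc _ (S.conjA ha g⁻¹)
  rw [inv_inv] at this
  calc g * c * g⁻¹ * a * (g * c * g⁻¹)⁻¹ = g * (c * (g⁻¹ * a * g) * c⁻¹) * g⁻¹ := by group
    _ = a := by rw [this]; group⟩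

/-- Alperin: the elements of order at most four centralizing `A` lie in `A`. -/
theorem mem_A {x : P} (hx : x ∈ S.C) (h4 : x ^ 4 = 1) : x ∈ S.A := by
  haveI : Fact (Nat.Prime 2) := ⟨Nat.prime_two⟩
  haveI := S.normalA
  exact PGroups.mem_of_pow_eq_one S.pG (n := 2) (by norm_num) S.commA (fun a ha => S.expA a ha)
    (fun B h1 h2 h3 h4 => S.maxA B h1 h2 h3 h4) hx h4

/-- The elements of order at most two of `A`. -/
def V : Subgroup P where
  carrier := {a | a ∈ S.A ∧ a * a = 1}
  one_mem' := ⟨one_mem _, mul_one 1⟩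
  mul_mem' {a b} ha hb := by
    refine ⟨mul_mem ha.1 hb.1, ?_⟩
    rw [show a * b * (a * b) = a * (b * a) * b by group, ← S.commA' ha.1 hb.1,
      show a * (a * b) * b = a * a * (b * b) by group, ha.2, hb.2, one_mul]
  inv_mem' {a} ha := ⟨inv_mem ha.1, by rw [← mul_inv_rev, ha.2, inv_one]⟩

theorem mem_V {a : P} : a ∈ S.V ↔ a ∈ S.A ∧ a * a = 1 := Iff.rfl

theorem V_le_A : S.V ≤ S.A := fun _ h => h.1

theorem normal_V : S.V.Normal := ⟨fun a ha g => ⟨S.conjA ha.1 g, by
  rw [show g * a * g⁻¹ * (g * a * g⁻¹) = g * (a * a) * g⁻¹ by group, ha.2, mul_one, mul_inv_cancel]⟩⟩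

theorem card_V : Nat.card S.V ≤ 4 :=
  S.noE S.V S.normal_V (PGroups.isMulCommutative_of_comm fun _ ha _ hb => S.commA' ha.1 hb.1)
    fun _ ha => ha.2

/-- The squares of elements of `A` have order at most two. -/
theorem sq_mem_V {a : P} (ha : a ∈ S.A) : a * a ∈ S.V :=
  ⟨mul_mem ha ha, by rw [← pow_two, ← pow_two, ← pow_mul]; exact S.expA a ha⟩

theorem hcC : Hc ↥S.C := fun x h4 y => Subtype.ext
  (S.comm_C (S.mem_A x.2 (by simpa using congrArg Subtype.val h4)) y.2)

/-- Subgroups of the centralizer of `A` need two generators at most. -/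
theorem index_sq_C (U : Subgroup P) :
    (sq (S.C.subgroupOf U)).relIndex (S.C.subgroupOf U) ≤ 4 := by
  set D := S.C.subgroupOf U
  have hcD : Hc ↥D := fun x h4 y => Subtype.ext (Subtype.ext
    (S.comm_C (S.mem_A x.2 (by simpa using congrArg (fun z : D => ((z : U) : P)) h4)) y.2))
  have h := index_sq_le _ ↥D le_rfl ((S.pG.to_subgroup U).to_subgroup D) hcD
  have hrI : ((sq (⊤ : Subgroup ↥D)).map D.subtype).relIndex D = (sq (⊤ : Subgroup ↥D)).index := by
    rw [Subgroup.relIndex, Subgroup.subgroupOf, Subgroup.comap_map_eq_self_of_injective D.subtype_injective]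
  rw [← hrI, map_sq, ← MonoidHom.range_eq_map, Subgroup.range_subtype] at h
  refine h.trans (le_trans (Nat.card_le_card_of_injective (fun x : omega hcD =>
    (⟨(((x : D) : U) : P), S.mem_A (x : D).2 ?_, ?_⟩ : S.V)) ?_) S.card_V)
  · have := congrArg (fun z : D => ((z : U) : P)) (mem_omega.1 x.2)
    simp only [Subgroup.coe_mul, Subgroup.coe_one] at this
    rw [show (4 : ℕ) = 2 * 2 from rfl, pow_mul, pow_two (((x : D) : U) : P), this, one_pow]
  · have := congrArg (fun z : D => ((z : U) : P)) (mem_omega.1 x.2)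
    simpa using this
  · intro x y hxy
    exact Subtype.ext (Subtype.ext (Subtype.ext (congrArg (fun z : S.V => (z : P)) hxy)))

/-- Only two elements act differently on `A` once their effect on generators is known. -/
theorem card_quot_le {U : Subgroup P} {β : Type*} [Finite β] (f : P → β)
    (hf : ∀ x ∈ U, ∀ y ∈ U, f x = f y → x⁻¹ * y ∈ S.C) :
    (S.C.subgroupOf U).index ≤ Nat.card β := by
  refine Nat.card_le_card_of_injective
    (fun q : ↥U ⧸ S.C.subgroupOf U => f ((Quotient.out q : U) : P)) ?_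
  intro q₁ q₂ h
  rw [← QuotientGroup.out_eq' q₁, ← QuotientGroup.out_eq' q₂, QuotientGroup.eq, Subgroup.mem_subgroupOf]
  simpa using hf _ (Quotient.out q₁).2 _ (Quotient.out q₂).2 h

theorem inv_mul_mem_C {G : P} {x : P} (h : ∀ a ∈ S.A, x * a * x⁻¹ = G * a * G⁻¹) : x⁻¹ * G ∈ S.C :=
  S.mem_C.2 fun a ha => by
    calc x⁻¹ * G * a * (x⁻¹ * G)⁻¹ = x⁻¹ * (G * a * G⁻¹) * x := by group
      _ = a := by rw [← h a ha]; group

/-- When `|A| < 16`, the group induced by any subgroup on `A` is 2-generated modulo squares. -/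
theorem index_small (hsmall : Nat.card S.A < 16) (U : Subgroup P) :
    (sq (⊤ : Subgroup ↥U) ⊔ S.C.subgroupOf U).index ≤ 4 := by
  classical
  haveI : Fact (Nat.Prime 2) := ⟨Nat.prime_two⟩
  have hle : (sq (⊤ : Subgroup ↥U) ⊔ S.C.subgroupOf U).index ≤ (S.C.subgroupOf U).index :=
    Subgroup.index_antitone le_sup_right
  have hconjV : ∀ {v : P}, v ∈ S.V → ∀ g : P, g * v * g⁻¹ ∈ S.V := fun hv g => S.normal_V.conj_mem _ hv g
  -- `A` is covered by `V` and one coset
  obtain ⟨a, haA, hcover⟩ : ∃ a ∈ S.A, ∀ b ∈ S.A, b ∈ S.V ∨ a⁻¹ * b ∈ S.V := by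
    by_cases hAV : S.A ≤ S.V
    · exact ⟨1, one_mem _, fun b hb => Or.inl (hAV hb)⟩
    obtain ⟨a, haA, haV⟩ := SetLike.not_le_iff_exists.1 hAV
    refine ⟨a, haA, fun b hb => ?_⟩
    by_contra hno
    simp only [not_or] at hno
    let sqh : ↥S.A →* ↥S.V :=
      { toFun := fun z => ⟨(z : P) * z, S.sq_mem_V z.2⟩
        map_one' := Subtype.ext (mul_one 1)
        map_mul' := fun y z => Subtype.ext (by
          show (y : P) * z * (y * z) = y * y * (z * z)
          rw [show (y : P) * z * (y * z) = y * (z * y) * z by group, ← S.commA' y.2 z.2]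
          group) }
    have hker : Nat.card sqh.ker = Nat.card S.V := Nat.card_congr
      { toFun := fun z => ⟨(z.1 : P), z.1.2, congrArg Subtype.val z.2⟩
        invFun := fun v => ⟨⟨v.1, v.2.1⟩, Subtype.ext v.2.2⟩
        left_inv := fun z => rfl
        right_inv := fun v => rfl }
    have hcard := sqh.ker.card_mul_index
    rw [Subgroup.index_ker, hker] at hcard
    have hVle := S.card_V
    have h3 : 3 ≤ Nat.card sqh.range := by
      have : ∀ z : P, ∀ hz : z ∈ S.A, sqh ⟨z, hz⟩ = 1 → z ∈ S.V := fun z hz h =>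
        ⟨hz, congrArg Subtype.val h⟩
      have h1 : sqh ⟨a, haA⟩ ≠ 1 := fun h => haV (this a haA h)
      have h2 : sqh ⟨b, hb⟩ ≠ 1 := fun h => hno.1 (this b hb h)
      have h12 : sqh ⟨a, haA⟩ ≠ sqh ⟨b, hb⟩ := fun h => hno.2 (this _ (mul_mem (inv_mem haA) hb) (by
        rw [show (⟨a⁻¹ * b, mul_mem (inv_mem haA) hb⟩ : S.A) = (⟨a, haA⟩ : S.A)⁻¹ * ⟨b, hb⟩ from rfl,
          map_mul, map_inv, h, inv_mul_cancel]))
      exact le_card_of_list (Q := sqh.range) [1, sqh ⟨a, haA⟩, sqh ⟨b, hb⟩]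
        (by simp [h1.symm, h2.symm, h12])
        (fun z hz => by
          simp only [List.mem_cons, List.not_mem_nil, or_false] at hz
          rcases hz with rfl | rfl | rfl
          · exact one_mem _
          · exact ⟨_, rfl⟩
          · exact ⟨_, rfl⟩)
    have h4 : Nat.card sqh.range ≤ Nat.card S.V := Nat.card_le_card_of_injective _ Subtype.val_injective
    -- the range has order three or four, dividing the order of `A`
    obtain ⟨i, hi⟩ := IsPGroup.iff_card.1 (S.pG.to_subgroup S.V)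
    obtain ⟨j, hj⟩ := IsPGroup.iff_card.1 (((S.pG.to_subgroup S.V)).to_subgroup sqh.range)
    have hr4 : Nat.card sqh.range = 4 := by
      have h5 : 2 ^ j ≤ 4 := hj ▸ h4.trans hVle
      have h6 : 3 ≤ 2 ^ j := hj ▸ h3
      have h7 : j ≤ 2 := (Nat.pow_le_pow_iff_right (by norm_num : 1 < 2)).1 (h5.trans_eq rfl)
      rw [hj]
      interval_cases j <;> omega
    rw [hr4] at hcard h4
    omega
  have hact : ∀ x y : P, (∀ v ∈ S.V, x * v * x⁻¹ = y * v * y⁻¹) → x * a * x⁻¹ = y * a * y⁻¹ →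
      x⁻¹ * y ∈ S.C := by
    intro x y hv ha
    refine S.inv_mul_mem_C fun b hb => ?_
    rcases hcover b hb with h | h
    · exact hv b h
    · have := congrArg₂ (· * ·) ha (hv _ h)
      rw [show x * a * x⁻¹ * (x * (a⁻¹ * b) * x⁻¹) = x * b * x⁻¹ by group,
        show y * a * y⁻¹ * (y * (a⁻¹ * b) * y⁻¹) = y * b * y⁻¹ by group] at this
      exact this
  -- translation part on the coset
  have htr : ∀ x : P, a⁻¹ * (x * a * x⁻¹) ∈ S.V := by
    intro x
    rcases hcover _ (S.conjA haA x) with h | h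
    · refine ⟨mul_mem (inv_mem haA) h.1, ?_⟩
      have ha2 : a * a = 1 := by
        have := h.2
        rwa [show x * a * x⁻¹ * (x * a * x⁻¹) = x * (a * a) * x⁻¹ by group, conj_eq_one_iff] at this
      exact (S.V.mul_mem (S.V.inv_mem ⟨haA, ha2⟩) h).2
    · exact h
  let tr : P → ↥S.V := fun x => ⟨_, htr x⟩
  have htr_inj : ∀ x y, tr x = tr y → x * a * x⁻¹ = y * a * y⁻¹ := fun x y h =>
    mul_left_cancel (congrArg Subtype.val h)
  have hVc := S.card_V
  by_cases hZV : ∀ v ∈ S.V, ∀ g : P, g * v * g⁻¹ = v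
  · refine hle.trans ((S.card_quot_le tr fun x _ y _ h => ?_).trans hVc)
    exact hact x y (fun v hv => by rw [hZV v hv x, hZV v hv y]) (htr_inj x y h)
  simp only [not_forall] at hZV
  obtain ⟨v₂, hv₂, g₀, hg₀⟩ := hZV
  obtain ⟨e, he, hec, he1⟩ : ∃ e ∈ S.V, e ∈ Subgroup.center P ∧ e ≠ 1 := by
    haveI := S.normal_V
    have hne : S.V ≠ ⊥ := fun h => hg₀ (by rw [h, Subgroup.mem_bot] at hv₂; rw [hv₂]; group)
    obtain ⟨e, he, he1⟩ := SetLike.exists_of_lt
      (bot_lt_iff_ne_bot.2 (PGroups.inf_center_ne_bot S.pG S.V hne))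
    exact ⟨e, he.1, he.2, fun h => he1 (Subgroup.mem_bot.2 h)⟩
  have hec' : ∀ x : P, x * e * x⁻¹ = e := fun x => by
    rw [Subgroup.mem_center_iff.1 hec x, mul_inv_cancel_right]
  have hv₂1 : v₂ ≠ 1 := fun h => hg₀ (by rw [h]; group)
  have hv₂e : v₂ ≠ e := fun h => hg₀ (by rw [h, hec'])
  -- every element of `V` is among four
  have hlist : ∀ v ∈ S.V, v = 1 ∨ v = e ∨ v = v₂ ∨ v = e * v₂ := by
    intro v hv
    by_contra hno
    simp only [not_or] at hno
    obtain ⟨n1, n2, n3, n4⟩ := hno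
    have h5 := le_card_of_list (Q := S.V) [1, e, v₂, e * v₂, v] ?_ ?_
    · have := S.card_V
      simp at h5
      omega
    · have hev : e * v₂ ≠ 1 := fun h => hv₂e (by
        rw [← inv_eq_of_mul_eq_one_right h, inv_eq_of_mul_eq_one_right he.2])
      simp [he1.symm, hv₂1.symm, hev.symm, hv₂e.symm, hv₂1, he1, Ne.symm n1, Ne.symm n2, Ne.symm n3,
        Ne.symm n4]
    · simp [he, hv₂, hv, one_mem, mul_mem he hv₂]
  have hV2 : ∀ x : P, x * v₂ * x⁻¹ = v₂ ∨ x * v₂ * x⁻¹ = e * v₂ := by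
    intro x
    rcases hlist _ (hconjV hv₂ x) with h | h | h | h
    · exact absurd (conj_eq_one_iff.1 h) hv₂1
    · exact absurd (conj_injective (h.trans (hec' x).symm)) hv₂e
    · exact Or.inl h
    · exact Or.inr h
  have hVact : ∀ x y : P, (x * v₂ * x⁻¹ = v₂ ↔ y * v₂ * y⁻¹ = v₂) →
      ∀ v ∈ S.V, x * v * x⁻¹ = y * v * y⁻¹ := by
    intro x y h v hv
    have hxy : x * v₂ * x⁻¹ = y * v₂ * y⁻¹ := by
      rcases hV2 x with hx | hx <;> rcases hV2 y with hy | hy
      · rw [hx, hy]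
      · exact absurd (h.1 hx) (by rw [hy]; simpa using he1)
      · exact absurd (h.2 hy) (by rw [hx]; simpa using he1)
      · rw [hx, hy]
    rcases hlist v hv with rfl | rfl | rfl | rfl
    · group
    · rw [hec', hec']
    · exact hxy
    · rw [← conj_mul, ← conj_mul, hec', hec', hxy]
  by_cases haV : a ∈ S.V
  · refine hle.trans ((S.card_quot_le (fun x => decide (x * v₂ * x⁻¹ = v₂)) fun x _ y _ h => ?_).trans
      (by simp))
    have hv := hVact x y (by simpa using h)
    exact hact x y hv (hv a haV)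
  set L := sq (⊤ : Subgroup ↥U) ⊔ S.C.subgroupOf U
  let f : P → Bool × ↥S.V := fun x => (decide (x * v₂ * x⁻¹ = v₂), tr x)
  have hf : ∀ x ∈ U, ∀ y ∈ U, f x = f y → x⁻¹ * y ∈ S.C := fun x _ y _ h => by
    have h1 := congrArg Prod.fst h
    exact hact x y (hVact x y (by simpa [f] using h1)) (htr_inj x y (congrArg Prod.snd h))
  have hD8 := S.card_quot_le f hf
  have hcardf : Nat.card (Bool × ↥S.V) ≤ 8 := by
    rw [Nat.card_prod, Nat.card_eq_fintype_card (α := Bool), Fintype.card_bool]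
    omega
  by_contra hgt
  rw [not_le] at hgt
  have hmul : (S.C.subgroupOf U).relIndex L * L.index = (S.C.subgroupOf U).index :=
    Subgroup.relIndex_mul_index le_sup_right
  have hrel : (S.C.subgroupOf U).relIndex L = 1 := by
    by_contra hne
    have h0 : (S.C.subgroupOf U).relIndex L ≠ 0 := Subgroup.index_ne_zero_of_finite
    have : 2 * L.index ≤ (S.C.subgroupOf U).index := by
      rw [← hmul]; exact Nat.mul_le_mul_right _ (by omega)
    omega
  have hLD : L ≤ S.C.subgroupOf U := Subgroup.relIndex_eq_one.1 hrel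
  -- every value of `f` occurs
  have hidx : Nat.card (Bool × ↥S.V) ≤ (S.C.subgroupOf U).index := by
    obtain ⟨i, hi⟩ := ((S.pG.to_subgroup U).index (S.C.subgroupOf U))
    have h5 : 4 < (S.C.subgroupOf U).index := lt_of_lt_of_le hgt hle
    rcases i with _ | _ | _ | i
    · omega
    · omega
    · omega
    · have : 8 ≤ (S.C.subgroupOf U).index := by
        rw [hi, show i + 1 + 1 + 1 = i + 3 by omega, pow_add]
        exact Nat.le_mul_of_pos_left _ (by positivity)
      omega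
  have hbij := Function.Injective.bijective_of_nat_card_le
    (f := fun q : ↥U ⧸ S.C.subgroupOf U => f ((Quotient.out q : U) : P)) (fun q₁ q₂ h => by
      rw [← QuotientGroup.out_eq' q₁, ← QuotientGroup.out_eq' q₂, QuotientGroup.eq, Subgroup.mem_subgroupOf]
      simpa using hf _ (Quotient.out q₁).2 _ (Quotient.out q₂).2 h) hidx
  obtain ⟨qw, hqw⟩ := hbij.2 (false, 1)
  obtain ⟨qk, hqk⟩ := hbij.2 (true, ⟨v₂, hv₂⟩)
  set w : P := ((Quotient.out qw : U) : P) with hw
  set k : P := ((Quotient.out qk : U) : P) with hk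
  have hw2 : w * v₂ * w⁻¹ ≠ v₂ := by simpa [f] using congrArg Prod.fst hqw
  have hwa : w * a * w⁻¹ = a := by
    have := congrArg (fun z : Bool × ↥S.V => ((z.2 : ↥S.V) : P)) hqw
    simp only [f, tr] at this
    exact (inv_mul_eq_one.1 this).symm
  have hk2 : k * v₂ * k⁻¹ = v₂ := by simpa [f] using congrArg Prod.fst hqk
  have hka : k * a * k⁻¹ = a * v₂ := by
    have := congrArg (fun z : Bool × ↥S.V => ((z.2 : ↥S.V) : P)) hqk
    simp only [f, tr] at this
    exact inv_mul_eq_iff_eq_mul.1 this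
  have hcom : w * k * w⁻¹ * k⁻¹ ∈ S.C := by
    have := hLD (Subgroup.mem_sup_left
      (comm_mem_sq (Subgroup.mem_top (Quotient.out qw : U)) (Subgroup.mem_top (Quotient.out qk : U))))
    simpa [Subgroup.mem_subgroupOf] using this
  have h1 := S.mem_C.1 hcom _ (S.conjA (S.conjA haA w) k)
  rw [show w * k * w⁻¹ * k⁻¹ * (k * (w * a * w⁻¹) * k⁻¹) * (w * k * w⁻¹ * k⁻¹)⁻¹
    = w * (k * a * k⁻¹) * w⁻¹ by group, hwa, hka,
    show w * (a * v₂) * w⁻¹ = w * a * w⁻¹ * (w * v₂ * w⁻¹) by group, hwa] at h1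
  exact hw2 (mul_left_cancel h1)

end Ctx

end Cfsg.Agent.Coprime.FourGen
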